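import Cfsg.Agent.Lib.ClassNum.Count
import Mathlib.Order.Interval.Finset.Nat
import Mathlib.Algebra.Order.BigOperators.Group.Finset
import Mathlib.Tactic.NormNum

/-! Numerical estimates for the class number bounds. -/

set_option autoImplicit false

namespace CfsgLib.ClassNum

theorem bCount_one (q : ℕ) : bCount q 1 1 = q - 1 := by
  simp [bCount, geo]

theorem bCount_two (q : ℕ) : bCount q 2 2 = (q - 1) * (q + 1) := by
  simp [bCount, geo, Finset.sum_range_succ]
  ring

theorem bCount_three (q : ℕ) (hq : 1 ≤ q) : bCount q 3 3 = (q - 1) * (q ^ 2 + q) := by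
  obtain ⟨r, rfl⟩ : ∃ r, q = r + 1 := ⟨q - 1, by omega⟩
  simp [bCount, geo, Finset.sum_range_succ]
  ring

theorem bCount_le (q m : ℕ) (hq : 1 ≤ q) : bCount q m m ≤ q ^ m := by
  rcases Nat.eq_zero_or_pos m with rfl | hm
  · simp [bCount]
  · exact Nat.le_of_succ_le (bCount_lt hq m hm)

theorem three_mul_sum_sq_le (q : ℕ) : 3 * ∑ e ∈ Finset.range q, e ^ 2 ≤ q ^ 3 := by
  induction q with
  | zero => simp
  | succ k ih =>
    rw [Finset.sum_range_succ]
    have : (k + 1) ^ 3 = k ^ 3 + 3 * k ^ 2 + (3 * k + 1) := by ring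
    omega

theorem aBound_one (q : ℕ) : aBound q 1 = q - 1 := by
  simp [aBound, bCount_one]

theorem aBound_two_le (q : ℕ) :
    aBound q 2 ≤ (q - 1) * (q + 1) + if 3 ≤ q then 3 * (q - 1) else 0 := by
  rw [aBound, show Finset.Icc 2 2 = ({2} : Finset ℕ) from rfl, Finset.sum_filter, Finset.sum_singleton,
    bCount_two]
  refine Nat.add_le_add_left ?_ _
  split_ifs with h h' <;> first
    | exact Nat.zero_le _
    | simp [bCount_one]; done
    | skip
  have h2 := h.2
  rcases Nat.lt_or_ge q 2 with hq | hq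
  · simp [bCount_one]; omega
  · have : q = 2 := by omega
    subst this; simp at h2

theorem aBound_three_le (q : ℕ) (hq : 2 ≤ q) :
    aBound q 3 ≤ (q - 1) * (q ^ 2 + q) + if 4 ≤ q then 8 * (q - 1) else 0 := by
  rw [aBound, show Finset.Icc 2 3 = ({2, 3} : Finset ℕ) from rfl, Finset.sum_filter,
    Finset.sum_pair (by decide), bCount_three q (by omega), if_neg (by omega), zero_add]
  refine Nat.add_le_add_left ?_ _
  split_ifs with h h'
  · simp [bCount_one]
  · obtain ⟨-, h3⟩ := h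
    have := Nat.le_of_dvd (by omega) h3
    omega
  · exact Nat.zero_le _
  · exact Nat.zero_le _

theorem aBound_four_le (q : ℕ) (hq : 2 ≤ q) :
    aBound q 4 + 1 ≤ q ^ 4 + ((if 3 ≤ q then 3 * ((q - 1) * (q + 1)) else 0) +
      if 4 ∣ q - 1 then 15 * (q - 1) else 0) := by
  rw [aBound, show Finset.Icc 2 4 = ({2, 3, 4} : Finset ℕ) from rfl, Finset.sum_filter,
    Finset.sum_insert (by decide), Finset.sum_pair (by decide), add_right_comm]
  refine Nat.add_le_add (bCount_lt (by omega) 4 (by omega)) (Nat.add_le_add ?_ ?_)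
  · split_ifs with h h'
    · simp [bCount_two]
    · obtain ⟨-, h2⟩ := h; omega
    · exact Nat.zero_le _
    · exact Nat.zero_le _
  · rw [if_neg (show ¬(3 ∣ 4 ∧ 3 ∣ q - 1) by omega), zero_add]
    split_ifs with h h' h'
    · simp [bCount_one]
    · exact absurd h.2 h'
    · exact Nat.zero_le _
    · exact Nat.zero_le _

theorem aBound_five_le (q : ℕ) (hq : 2 ≤ q) :
    aBound q 5 ≤ q ^ 5 + if 5 ∣ q - 1 then 24 * (q - 1) else 0 := by
  rw [aBound, show Finset.Icc 2 5 = ({2, 3, 4, 5} : Finset ℕ) from rfl, Finset.sum_filter,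
    Finset.sum_insert (by decide), Finset.sum_insert (by decide), Finset.sum_pair (by decide),
    if_neg (show ¬(2 ∣ 5 ∧ 2 ∣ q - 1) by omega), if_neg (show ¬(3 ∣ 5 ∧ 3 ∣ q - 1) by omega),
    if_neg (show ¬(4 ∣ 5 ∧ 4 ∣ q - 1) by omega), zero_add, zero_add, zero_add]
  refine Nat.add_le_add (bCount_le q 5 (by omega)) ?_
  split_ifs with h h' h'
  · simp [bCount_one]
  · exact absurd h.2 h'
  · exact Nat.zero_le _
  · exact Nat.zero_le _

theorem aBound_two_eq (q : ℕ) : aBound 2 q = bCount 2 q q := by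
  rw [aBound, Finset.filter_false_of_mem, Finset.sum_empty, add_zero]
  intro e he h
  have := Nat.le_of_dvd (by norm_num) h.2
  have := (Finset.mem_Icc.1 he).1
  omega

theorem aBound_le_crude (q m : ℕ) (hq : 2 ≤ q) (hm : 1 ≤ m) : aBound q m ≤ q ^ (m + 2) := by
  rw [aBound]
  set D := (Finset.Icc 2 m).filter (fun e => e ∣ m ∧ e ∣ q - 1)
  have hT : ∀ e ∈ D, (e ^ 2 - 1) * bCount q (m / e) (m / e) ≤ e ^ 2 * q ^ (m - 1) := by
    intro e he
    obtain ⟨h2, -⟩ := Finset.mem_filter.1 he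
    have he2 := (Finset.mem_Icc.1 h2).1
    refine Nat.mul_le_mul (Nat.sub_le _ _) (le_trans (bCount_le q _ (by omega)) (Nat.pow_le_pow_right (by omega) ?_))
    have : m / e ≤ m / 2 := Nat.div_le_div_left he2 (by omega)
    omega
  have hD : D ⊆ Finset.range q := fun e he => by
    obtain ⟨-, -, h⟩ := Finset.mem_filter.1 he
    have := Nat.le_of_dvd (by omega) h
    exact Finset.mem_range.2 (by omega)
  have h1 : ∑ e ∈ D, (e ^ 2 - 1) * bCount q (m / e) (m / e) ≤
      (∑ e ∈ Finset.range q, e ^ 2) * q ^ (m - 1) := by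
    rw [Finset.sum_mul]
    exact le_trans (Finset.sum_le_sum hT) (Finset.sum_le_sum_of_subset hD)
  have h2 := bCount_le q m (by omega)
  have h3 := three_mul_sum_sq_le q
  obtain ⟨k, rfl⟩ : ∃ k, m = k + 1 := ⟨m - 1, by omega⟩
  rw [Nat.add_sub_cancel] at h1
  have h4 : 3 * ((∑ e ∈ Finset.range q, e ^ 2) * q ^ k) ≤ q ^ (k + 3) := by
    rw [← mul_assoc, pow_add, mul_comm (q ^ k)]
    exact Nat.mul_le_mul_right _ h3
  have h5 : 2 * q ^ (k + 1) ≤ q ^ (k + 3) := by
    calc 2 * q ^ (k + 1) ≤ q ^ 2 * q ^ (k + 1) := Nat.mul_le_mul_right _ (le_trans hq (Nat.le_self_pow two_ne_zero q))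
      _ = q ^ (k + 3) := by rw [← pow_add]; ring_nf
  show _ ≤ q ^ (k + 3)
  omega

theorem large_sum_le {q n : ℕ} (hq : 3 ≤ q) (hn : 6 ≤ n) :
    3 * ∑ e ∈ (Finset.Icc 2 n).filter (fun e => e ∣ n ∧ e ∣ q - 1),
      (e ^ 2 - 1) * bCount q (n / e) (n / e) ≤ 2 * q ^ (n - 1) := by
  set D := (Finset.Icc 2 n).filter (fun e => e ∣ n ∧ e ∣ q - 1)
  have hD : D ⊆ Finset.range q := fun e he => by
    obtain ⟨-, -, h⟩ := Finset.mem_filter.1 he
    have := Nat.le_of_dvd (by omega) h
    exact Finset.mem_range.2 (by omega)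
  have hT : ∀ e ∈ D, (e ^ 2 - 1) * bCount q (n / e) (n / e) ≤
      (if e = 2 then 3 * q ^ (n / 2) else 0) + e ^ 2 * q ^ (n / 3) := by
    intro e he
    obtain ⟨h2, -⟩ := Finset.mem_filter.1 he
    have he2 := (Finset.mem_Icc.1 h2).1
    split_ifs with h
    · subst h
      exact le_add_right (Nat.mul_le_mul_left _ (bCount_le q _ (by omega)))
    · rw [zero_add]
      refine Nat.mul_le_mul (Nat.sub_le _ _) (le_trans (bCount_le q _ (by omega))
        (Nat.pow_le_pow_right (by omega) (Nat.div_le_div_left (by omega) (by omega))))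
  have h1 : ∑ e ∈ D, (e ^ 2 - 1) * bCount q (n / e) (n / e) ≤
      3 * q ^ (n / 2) + (∑ e ∈ Finset.range q, e ^ 2) * q ^ (n / 3) := by
    refine le_trans (Finset.sum_le_sum hT) ?_
    rw [Finset.sum_add_distrib, Finset.sum_mul]
    refine Nat.add_le_add ?_ (Finset.sum_le_sum_of_subset hD)
    rw [Finset.sum_ite_eq']
    split_ifs <;> simp
  have h2 : 9 * q ^ (n / 2) ≤ q ^ (n - 1) :=
    calc 9 * q ^ (n / 2) ≤ q ^ 2 * q ^ (n / 2) := Nat.mul_le_mul_right _ (by nlinarith)
      _ = q ^ (n / 2 + 2) := by rw [← pow_add, add_comm]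
      _ ≤ q ^ (n - 1) := Nat.pow_le_pow_right (by omega) (by omega)
  have h3 : 3 * ((∑ e ∈ Finset.range q, e ^ 2) * q ^ (n / 3)) ≤ q ^ (n - 1) :=
    calc 3 * ((∑ e ∈ Finset.range q, e ^ 2) * q ^ (n / 3))
        ≤ q ^ 3 * q ^ (n / 3) := by
          rw [← mul_assoc]
          exact Nat.mul_le_mul_right _ (three_mul_sum_sq_le q)
      _ = q ^ (n / 3 + 3) := by rw [← pow_add, add_comm]
      _ ≤ q ^ (n - 1) := Nat.pow_le_pow_right (by omega) (by omega)
  omega

/-- The estimate behind `k(SL_n) ≤ q^(n-1) + 3q^(n-2)`. -/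
theorem aBound_sl {q n : ℕ} (hq : 2 ≤ q) (hn : 3 ≤ n) :
    aBound q n + 3 * q ^ (n - 2) ≤ q ^ n + 2 * q ^ (n - 1) := by
  rcases (by omega : q = 2 ∨ 3 ≤ q) with rfl | hq3
  · rw [aBound_two_eq]
    have h1 := bCount_le 2 n (by omega)
    have h2 : (2 : ℕ) ^ (n - 1) = 2 * 2 ^ (n - 2) := by
      rw [← pow_succ']; congr 1; omega
    omega
  rcases (by omega : n = 3 ∨ n = 4 ∨ n = 5 ∨ 6 ≤ n) with rfl | rfl | rfl | hn6
  · have h := aBound_three_le q hq
    obtain ⟨r, rfl⟩ : ∃ r, q = r + 1 := ⟨q - 1, by omega⟩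
    rw [Nat.add_sub_cancel] at h
    norm_num
    split_ifs at h <;> nlinarith
  · have h := aBound_four_le q hq
    obtain ⟨r, rfl⟩ : ∃ r, q = r + 1 := ⟨q - 1, by omega⟩
    rw [Nat.add_sub_cancel] at h
    norm_num
    rw [if_pos hq3] at h
    split_ifs at h with h4
    · have : 4 ≤ r := Nat.le_of_dvd (by omega) h4
      have := Nat.mul_le_mul_right (r ^ 2) this
      nlinarith
    · have : 2 ≤ r := by omega
      have := Nat.mul_le_mul_right (r ^ 2) this
      nlinarith
  · have h := aBound_five_le q hq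
    obtain ⟨r, rfl⟩ : ∃ r, q = r + 1 := ⟨q - 1, by omega⟩
    rw [Nat.add_sub_cancel] at h
    norm_num
    have e4 : 2 * (r + 1) ^ 4 = 2 * (r + 1) * (r + 1) ^ 3 := by ring
    have h6 := Nat.mul_le_mul_right ((r + 1) ^ 3) (show 6 ≤ 2 * (r + 1) by omega)
    have h8 : r * 9 ≤ (r + 1) ^ 3 := by
      have := Nat.mul_le_mul (show r ≤ r + 1 by omega) (Nat.mul_le_mul (show 3 ≤ r + 1 by omega) (show 3 ≤ r + 1 by omega))
      calc r * 9 ≤ _ := this
        _ = (r + 1) ^ 3 := by ring
    split_ifs at h <;> omega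
  · have h := large_sum_le hq3 hn6
    have hb := bCount_le q n (by omega)
    have h2 : q ^ (n - 1) = q * q ^ (n - 2) := by
      rw [← pow_succ']; congr 1; omega
    have h3 : 9 * q ^ (n - 2) ≤ 4 * (q * q ^ (n - 2)) := by
      rw [← mul_assoc]; exact Nat.mul_le_mul_right _ (by omega)
    unfold aBound
    omega

/-- The estimate behind `d k(PSL_n) ≤ q^(n-1) + 5q^(n-2)`. -/
theorem aBound_psl {q n : ℕ} (hq : 2 ≤ q) (hn : 2 ≤ n) {ι : Type*} (S : Finset ι) (o : ι → ℕ)
    (h2o : ∀ i ∈ S, 2 ≤ o i) (hon : ∀ i ∈ S, o i ∣ n) (hoq : ∀ i ∈ S, o i ∣ q - 1)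
    (hone : ∀ i ∈ S, ∀ j ∈ S, o i = 2 → o j = 2 → i = j)
    (hcard : S.card + 1 ≤ n) (hcard' : S.card + 1 ≤ q - 1) :
    aBound q n + ∑ i ∈ S, aBound q (n / o i) + 5 * q ^ (n - 2) ≤ q ^ n + 4 * q ^ (n - 1) := by
  rcases (by omega : q = 2 ∨ 3 ≤ q) with rfl | hq3
  · have hS : S = ∅ := Finset.card_eq_zero.1 (by omega)
    rw [hS, Finset.sum_empty, aBound_two_eq]
    have h1 := bCount_le 2 n (by omega)
    have h2 : (2 : ℕ) ^ (n - 1) = 2 * 2 ^ (n - 2) := by
      rw [← pow_succ']; congr 1; omega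
    omega
  rcases (by omega : n = 2 ∨ n = 3 ∨ n = 4 ∨ n = 5 ∨ 6 ≤ n) with rfl | rfl | rfl | rfl | hn6
  · have h := aBound_two_le q
    have hs : ∑ i ∈ S, aBound q (2 / o i) ≤ S.card * (q - 1) := by
      refine le_trans (Finset.sum_le_sum fun i hi => ?_) (le_of_eq (Finset.sum_const_nat fun _ _ => rfl))
      have : o i = 2 := le_antisymm (Nat.le_of_dvd (by omega) (hon i hi)) (h2o i hi)
      rw [this, Nat.div_self (by omega), aBound_one]
    have hs' := le_trans hs (Nat.mul_le_mul_right (q - 1) (show S.card ≤ 1 by omega))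
    obtain ⟨r, rfl⟩ : ∃ r, q = r + 1 := ⟨q - 1, by omega⟩
    rw [Nat.add_sub_cancel] at h hs'
    rw [if_pos hq3] at h
    norm_num
    nlinarith
  · have h := aBound_three_le q hq
    have hs : ∑ i ∈ S, aBound q (3 / o i) ≤ S.card * (q - 1) := by
      refine le_trans (Finset.sum_le_sum fun i hi => ?_) (le_of_eq (Finset.sum_const_nat fun _ _ => rfl))
      have : o i = 3 := by
        rcases (Nat.dvd_prime Nat.prime_three).1 (hon i hi) with h | h
        · have := h2o i hi; omega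
        · exact h
      rw [this, Nat.div_self (by omega), aBound_one]
    have hs' := le_trans hs (Nat.mul_le_mul_right (q - 1) (show S.card ≤ 2 by omega))
    obtain ⟨r, rfl⟩ : ∃ r, q = r + 1 := ⟨q - 1, by omega⟩
    rw [Nat.add_sub_cancel] at h hs'
    norm_num
    have := Nat.mul_le_mul_right r (show 2 ≤ r by omega)
    split_ifs at h <;> nlinarith
  · have h := aBound_four_le q hq
    have h2 := aBound_two_le q
    rw [if_pos hq3] at h h2
    have ho : ∀ i ∈ S, o i = 2 ∨ o i = 4 := fun i hi => by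
      have h1 := h2o i hi
      have h3 := hon i hi
      have := Nat.le_of_dvd (by omega) h3
      interval_cases hoi : o i <;> omega
    have h12 : q - 1 ≤ (q - 1) * (q + 1) + 3 * (q - 1) := by omega
    have hA : ∀ i ∈ S, aBound q (4 / o i) ≤ (q - 1) * (q + 1) + 3 * (q - 1) := fun i hi => by
      rcases ho i hi with h | h <;> rw [h]
      · exact h2
      · rw [Nat.div_self (by omega), aBound_one]; exact h12
    have hs := le_trans (Finset.sum_le_sum hA) (le_of_eq (Finset.sum_const_nat fun _ _ => rfl))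
    norm_num
    by_cases h4 : 4 ∣ q - 1
    · rw [if_pos h4] at h
      have hq5 : 4 ≤ q - 1 := Nat.le_of_dvd (by omega) h4
      have hs' := le_trans hs (Nat.mul_le_mul_right _ (show S.card ≤ 3 by omega))
      obtain ⟨r, rfl⟩ : ∃ r, q = r + 1 := ⟨q - 1, by omega⟩
      rw [Nat.add_sub_cancel] at h hs' hq5
      have := Nat.mul_le_mul_right (r ^ 2) hq5
      nlinarith
    · rw [if_neg h4] at h
      have hc : S.card ≤ 1 := Finset.card_le_one.2 fun i hi j hj => hone i hi j hj
        ((ho i hi).resolve_right fun h => h4 (h ▸ hoq i hi))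
        ((ho j hj).resolve_right fun h => h4 (h ▸ hoq j hj))
      have hs' := le_trans hs (Nat.mul_le_mul_right _ hc)
      obtain ⟨r, rfl⟩ : ∃ r, q = r + 1 := ⟨q - 1, by omega⟩
      rw [Nat.add_sub_cancel] at h hs'
      have := Nat.mul_le_mul_right (r ^ 2) (show 2 ≤ r by omega)
      nlinarith
  · have h := aBound_five_le q hq
    have hs : ∑ i ∈ S, aBound q (5 / o i) ≤ S.card * (q - 1) := by
      refine le_trans (Finset.sum_le_sum fun i hi => ?_) (le_of_eq (Finset.sum_const_nat fun _ _ => rfl))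
      have : o i = 5 := by
        rcases (Nat.dvd_prime Nat.prime_five).1 (hon i hi) with h | h
        · have := h2o i hi; omega
        · exact h
      rw [this, Nat.div_self (by omega), aBound_one]
    have hs' := le_trans hs (Nat.mul_le_mul_right (q - 1) (show S.card ≤ 4 by omega))
    have h6 := Nat.mul_le_mul_right (q ^ 3) (show 9 ≤ 4 * q - 3 by omega)
    have e4 : (4 * q - 3) * q ^ 3 = 4 * q ^ 4 - 3 * q ^ 3 := by
      rw [Nat.sub_mul, mul_assoc, ← pow_succ']
    have h8 : (q - 1) * 9 ≤ q ^ 3 := by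
      calc (q - 1) * 9 ≤ q * (3 * 3) := Nat.mul_le_mul (Nat.sub_le _ _) le_rfl
        _ ≤ q * (q * q) := Nat.mul_le_mul le_rfl (Nat.mul_le_mul hq3 hq3)
        _ = q ^ 3 := by ring
    show _ + _ + 5 * q ^ 3 ≤ q ^ 5 + 4 * q ^ 4
    split_ifs at h <;> omega
  · have h := large_sum_le hq3 hn6
    have hb := bCount_le q n (by omega)
    have hterm : ∀ i ∈ S, aBound q (n / o i) ≤
        (if o i = 2 then q ^ (n - 1) else 0) + q ^ (n / 3 + 2) := by
      intro i hi
      have h1 := hon i hi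
      have h3 := h2o i hi
      have hm : 1 ≤ n / o i := Nat.div_pos (Nat.le_of_dvd (by omega) h1) (by omega)
      refine le_trans (aBound_le_crude q _ hq hm) ?_
      split_ifs with h
      · refine le_add_right (Nat.pow_le_pow_right (by omega) ?_)
        rw [h]; omega
      · rw [zero_add]
        refine Nat.pow_le_pow_right (by omega) ?_
        have : n / o i ≤ n / 3 := Nat.div_le_div_left (by omega) (by omega)
        omega
    have hs : ∑ i ∈ S, aBound q (n / o i) ≤ q ^ (n - 1) + (q - 2) * q ^ (n / 3 + 2) := by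
      refine le_trans (Finset.sum_le_sum hterm) ?_
      rw [Finset.sum_add_distrib]
      refine Nat.add_le_add ?_ ?_
      · rw [← Finset.sum_filter, Finset.sum_const, smul_eq_mul]
        refine le_trans (Nat.mul_le_mul_right _ (?_ : _ ≤ 1)) (one_mul _).le
        exact Finset.card_le_one.2 fun i hi j hj =>
          hone i (Finset.mem_filter.1 hi).1 j (Finset.mem_filter.1 hj).1
            (Finset.mem_filter.1 hi).2 (Finset.mem_filter.1 hj).2
      · rw [Finset.sum_const, smul_eq_mul]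
        exact Nat.mul_le_mul_right _ (by omega)
    have h5 : (q - 2) * q ^ (n / 3 + 2) ≤ (q - 1) * q ^ (n - 2) :=
      Nat.mul_le_mul (by omega) (Nat.pow_le_pow_right (by omega) (by omega))
    have h2 : q ^ (n - 1) = q * q ^ (n - 2) := by
      rw [← pow_succ']; congr 1; omega
    have h6 : (q - 1) * q ^ (n - 2) = q * q ^ (n - 2) - q ^ (n - 2) := Nat.sub_one_mul q _
    have h7 : 12 * q ^ (n - 2) ≤ 4 * (q * q ^ (n - 2)) := by
      rw [← mul_assoc]; exact Nat.mul_le_mul_right _ (by omega)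
    unfold aBound at hs ⊢
    omega

end CfsgLib.ClassNum
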