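import Cfsg.Agent.Lib.ClassNum.Decomp
import Mathlib.GroupTheory.GroupAction.Quotient
import Mathlib.LinearAlgebra.Matrix.SpecialLinearGroup
import Mathlib.LinearAlgebra.Matrix.GeneralLinearGroup.Defs
import Mathlib.LinearAlgebra.Matrix.ToLinearEquiv

/-! Upper bounds for the numbers of classes of `GL_n`, `SL_n` and `PSL_n`. -/

set_option autoImplicit false

namespace CfsgLib.ClassNum

open Polynomial Matrix
open scoped MatrixGroups

variable {F : Type*} [Field F] {n : ℕ}

/-- The label of a matrix. -/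
noncomputable def lab (g : Matrix (Fin n) (Fin n) F) : ℕ → F[X] :=
  (exists_decomp g).some.label

theorem lab_eq {g : Matrix (Fin n) (Fin n) F} (D : Decomp g) : lab g = D.label :=
  Decomp.label_unique _ D

theorem lab_isLabel {g : Matrix (Fin n) (Fin n) F} (hg : g.det ≠ 0) : IsLabel n (lab g) :=
  Decomp.isLabel _ hg

theorem dTerm_lab (g : Matrix (Fin n) (Fin n) F) : dTerm 1 n (lab g) = g.det :=
  (Decomp.det_eq _).symm

theorem lab_conj (P : GL (Fin n) F) (g : Matrix (Fin n) (Fin n) F) :
    lab ((P : Matrix (Fin n) (Fin n) F) * g * ((P⁻¹ : GL (Fin n) F) : Matrix (Fin n) (Fin n) F)) = lab g := by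
  let D := (exists_decomp g).some
  let e : (Fin n → F) ≃ₗ[F] (Fin n → F) :=
    { (Matrix.mulVecLin ((P⁻¹ : GL (Fin n) F) : Matrix (Fin n) (Fin n) F)) with
      invFun := fun x => (P : Matrix (Fin n) (Fin n) F).mulVec x
      left_inv := fun x => by simp [Matrix.mulVec_mulVec]
      right_inv := fun x => by simp [Matrix.mulVec_mulVec] }
  let E : Decomp ((P : Matrix (Fin n) (Fin n) F) * g * ((P⁻¹ : GL (Fin n) F) : Matrix (Fin n) (Fin n) F)) :=
    { ι := D.ι
      fin := D.fin
      p := D.p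
      e := D.e
      monic := D.monic
      irred := D.irred
      pos := D.pos
      iso := e.trans D.iso
      iso_mulVec := fun x i => by
        show D.iso (((P⁻¹ : GL (Fin n) F) : Matrix (Fin n) (Fin n) F).mulVec _) i =
          _ * D.iso (((P⁻¹ : GL (Fin n) F) : Matrix (Fin n) (Fin n) F).mulVec x) i
        rw [← D.iso_mulVec]
        simp [Matrix.mulVec_mulVec, ← mul_assoc] }
  rw [lab_eq E, lab_eq D]
  rfl

theorem exists_conj_of_lab_eq (g g' : GL (Fin n) F)
    (h : lab (g : Matrix (Fin n) (Fin n) F) = lab (g' : Matrix (Fin n) (Fin n) F)) :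
    ∃ P : GL (Fin n) F, P * g * P⁻¹ = g' := by
  obtain ⟨T, hT⟩ := Decomp.exists_intertwine (exists_decomp (g : Matrix (Fin n) (Fin n) F)).some
    (exists_decomp (g' : Matrix (Fin n) (Fin n) F)).some h
  let A : Matrix (Fin n) (Fin n) F := LinearMap.toMatrix' (T : (Fin n → F) →ₗ[F] (Fin n → F))
  have hdet : A.det ≠ 0 := by
    rw [LinearMap.det_toMatrix']
    exact T.isUnit_det'.ne_zero
  refine ⟨Matrix.GeneralLinearGroup.mkOfDetNeZero A hdet, ?_⟩
  rw [mul_inv_eq_iff_eq_mul]
  apply Units.ext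
  apply Matrix.toLin'.injective
  refine LinearMap.ext fun x => ?_
  show Matrix.toLin' (A * (g : Matrix (Fin n) (Fin n) F)) x =
    Matrix.toLin' ((g' : Matrix (Fin n) (Fin n) F) * A) x
  simp only [Matrix.toLin'_mul, LinearMap.comp_apply, A, Matrix.toLin'_toMatrix', LinearEquiv.coe_coe,
    Matrix.toLin'_apply]
  exact hT x

variable [Fintype F]

theorem card_conjClasses_gl_le :
    Nat.card (ConjClasses (GL (Fin n) F)) ≤ bCount (Fintype.card F) n n := by
  classical
  refine le_trans ?_ (card_labels_le (F := F) n)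
  rw [← Nat.card_eq_finsetCard]
  refine Nat.card_le_card_of_injective
    (fun c => ⟨lab ((Quotient.out c : GL (Fin n) F) : Matrix (Fin n) (Fin n) F),
      mem_labels.2 (lab_isLabel (Matrix.GeneralLinearGroup.det_ne_zero _))⟩) ?_
  intro c d h
  obtain ⟨P, hP⟩ := exists_conj_of_lab_eq _ _ (congrArg Subtype.val h)
  rw [← Quotient.out_eq c, ← Quotient.out_eq d]
  exact Quotient.sound (isConj_iff.2 ⟨P, hP⟩)

/-- The label of a class of `SL_n`. -/
noncomputable def slLab (c : ConjClasses SL(n, F)) : ℕ → F[X] :=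
  lab ((Quotient.out c : SL(n, F)) : Matrix (Fin n) (Fin n) F)

omit [Fintype F] in
theorem slLab_mk (g : SL(n, F)) :
    slLab (ConjClasses.mk g) = lab (g : Matrix (Fin n) (Fin n) F) := by
  obtain ⟨u, hu⟩ := isConj_iff.1 (show IsConj g (Quotient.out (ConjClasses.mk g)) from
    ConjClasses.mk_eq_mk_iff_isConj.1 (Quotient.out_eq (ConjClasses.mk g)).symm)
  unfold slLab
  rw [← hu]
  have h := lab_conj (Matrix.SpecialLinearGroup.toGL u) (g : Matrix (Fin n) (Fin n) F)
  rw [← map_inv] at h
  exact h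

theorem card_fibre_le (v : ℕ → F[X]) :
    Nat.card {c : ConjClasses SL(n, F) // slLab c = v} ≤ eOf n v := by
  classical
  rcases isEmpty_or_nonempty {c : ConjClasses SL(n, F) // slLab c = v} with h | ⟨⟨c0, hc0⟩⟩
  · simp
  set g0 : SL(n, F) := Quotient.out c0 with hg0
  let G0 : GL (Fin n) F := Matrix.SpecialLinearGroup.toGL g0
  let S : Subgroup Fˣ := (Subgroup.centralizer {G0}).map Matrix.GeneralLinearGroup.det
  have hlab : lab (g0 : Matrix (Fin n) (Fin n) F) = v := hc0
  have hmem : ∀ i, v i ≠ 1 → ∀ a : Fˣ, a ^ i ∈ S := by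
    intro i hi a
    obtain ⟨C, hdet, hcomm⟩ := (exists_decomp (g0 : Matrix (Fin n) (Fin n) F)).some.exists_commute_det
      (i := i) (by rw [show (exists_decomp (g0 : Matrix (Fin n) (Fin n) F)).some.label = v from hlab]; exact hi) (a : F)
    have hne : C.det ≠ 0 := by rw [hdet]; exact pow_ne_zero _ a.ne_zero
    refine ⟨Matrix.GeneralLinearGroup.mkOfDetNeZero C hne, ?_, Units.ext ?_⟩
    · exact Subgroup.mem_centralizer_singleton_iff.2 (Units.ext hcomm)
    · rw [Units.val_pow_eq_pow_val, ← hdet]; rfl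
  have hpow : ∀ a : Fˣ, a ^ eOf n v ∈ S := by
    intro a
    have h1 : ∀ b : Fˣ, b ^ (Fintype.card F - 1) ∈ S := fun b => by
      rw [← Fintype.card_units, pow_card_eq_one]; exact S.one_mem
    have hg : ∀ T : Finset ℕ, (∀ i ∈ T, v i ≠ 1) → ∀ b : Fˣ, b ^ T.gcd id ∈ S := by
      intro T
      induction T using Finset.induction_on with
      | empty => intro _ b; simp
      | insert x T hx ih =>
        intro hT b
        rw [Finset.gcd_insert, id, gcd_eq_nat_gcd, ← zpow_natCast, Nat.gcd_eq_gcd_ab, _root_.zpow_add,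
          mul_comm (x : ℤ), _root_.zpow_mul, zpow_natCast, mul_comm ((T.gcd id : ℕ) : ℤ), _root_.zpow_mul, zpow_natCast]
        exact S.mul_mem (hmem x (hT x (Finset.mem_insert_self x T)) _)
          (ih (fun i hi => hT i (Finset.mem_insert_of_mem hi)) _)
    rw [eOf, ← zpow_natCast, Nat.gcd_eq_gcd_ab, _root_.zpow_add, mul_comm ((Fintype.card F - 1 : ℕ) : ℤ), _root_.zpow_mul,
      zpow_natCast, mul_comm _ (Nat.gcdB _ _), _root_.zpow_mul, zpow_natCast]
    exact S.mul_mem (h1 _) (hg _ (fun i hi => (Finset.mem_filter.1 hi).2) _)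
  have hidx : (powMonoidHom (eOf n v) : Fˣ →* Fˣ).range.index = eOf n v := by
    rw [IsCyclic.index_powMonoidHom_range, Nat.card_units, Nat.card_eq_fintype_card,
      Nat.gcd_eq_right (eOf_dvd_card_sub_one n v)]
  have hconj : ∀ c : {c : ConjClasses SL(n, F) // slLab c = v}, ∃ P : GL (Fin n) F,
      P * G0 * P⁻¹ = Matrix.SpecialLinearGroup.toGL (Quotient.out c.1 : SL(n, F)) :=
    fun c => exists_conj_of_lab_eq G0 _ (hlab.trans c.2.symm)
  choose P hP using hconj
  rw [← hidx, Subgroup.index_eq_card]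
  refine Nat.card_le_card_of_injective
    (fun c => (QuotientGroup.mk (Matrix.GeneralLinearGroup.det (P c)) :
      Fˣ ⧸ (powMonoidHom (eOf n v) : Fˣ →* Fˣ).range)) ?_
  intro c d h
  obtain ⟨a, ha⟩ := QuotientGroup.eq.1 h
  obtain ⟨C, hC, hCdet⟩ : ∃ C ∈ Subgroup.centralizer {G0},
      Matrix.GeneralLinearGroup.det C = (Matrix.GeneralLinearGroup.det (P c))⁻¹ *
        Matrix.GeneralLinearGroup.det (P d) := by
    have := hpow a
    rw [show a ^ eOf n v = powMonoidHom (eOf n v) a from rfl, ha] at this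
    exact this
  rw [Subgroup.mem_centralizer_singleton_iff] at hC
  have hU : Matrix.GeneralLinearGroup.det (P d * C⁻¹ * (P c)⁻¹) = 1 := by
    rw [map_mul, map_mul, map_inv, map_inv, hCdet]
    group
  let U : SL(n, F) := ⟨((P d * C⁻¹ * (P c)⁻¹ : GL (Fin n) F) : Matrix (Fin n) (Fin n) F),
    congrArg Units.val hU⟩
  apply Subtype.ext
  rw [← Quotient.out_eq c.1, ← Quotient.out_eq d.1]
  refine Quotient.sound (isConj_iff.2 ⟨U, Matrix.SpecialLinearGroup.toGL_injective ?_⟩)
  rw [map_mul, map_mul, map_inv, show Matrix.SpecialLinearGroup.toGL U = P d * C⁻¹ * (P c)⁻¹ from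
    Units.ext rfl, ← hP c, ← hP d]
  have : C⁻¹ * G0 * C = G0 := by rw [mul_assoc, ← hC, inv_mul_cancel_left]
  calc P d * C⁻¹ * (P c)⁻¹ * (P c * G0 * (P c)⁻¹) * (P d * C⁻¹ * (P c)⁻¹)⁻¹
      = P d * (C⁻¹ * G0 * C) * (P d)⁻¹ := by group
    _ = P d * G0 * (P d)⁻¹ := by rw [this]

theorem card_classes_le_sum (Q : ConjClasses SL(n, F) → Prop) (V : Finset (ℕ → F[X]))
    (h : ∀ c, Q c → slLab c ∈ V) :
    Nat.card {c // Q c} ≤ ∑ v ∈ V, eOf n v := by
  classical
  have : Fintype (ConjClasses SL(n, F)) := Fintype.ofFinite _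
  rw [Nat.card_eq_fintype_card, Fintype.card_subtype,
    Finset.card_eq_sum_card_fiberwise (f := slLab) (t := V) (fun c hc => h c (Finset.mem_filter.1 hc).2)]
  refine Finset.sum_le_sum fun v _ => le_trans ?_ (card_fibre_le v)
  rw [Nat.card_eq_fintype_card, Fintype.card_subtype]
  exact Finset.card_le_card fun c hc => Finset.mem_filter.2 ⟨Finset.mem_univ c, (Finset.mem_filter.1 hc).2⟩

theorem card_conjClasses_sl_mul_le (hn : 1 ≤ n) :
    (Fintype.card F - 1) * Nat.card (ConjClasses SL(n, F)) ≤ aBound (Fintype.card F) n := by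
  classical
  refine le_trans (le_trans (Nat.mul_le_mul_left _ ?_) (sum_eOf_le 1 n)) (aCount_le F n hn)
  rw [← Nat.card_congr (Equiv.subtypeUnivEquiv (p := fun _ : ConjClasses SL(n, F) => True) fun _ => trivial)]
  refine card_classes_le_sum _ _ fun c _ => Finset.mem_filter.2 ⟨mem_labels.2 (lab_isLabel ?_), ?_⟩
  · simp
  · rw [slLab, dTerm_lab]; simp

omit [Fintype F] in
theorem IsLabel.eq_one_of_lt_of_dvd {v : ℕ → F[X]} (hv : IsLabel n v) {o i : ℕ}
    (h : ∀ i, o ∣ (v i).natDegree) (hi : n < o * i) : v i = 1 := by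
  by_cases hin : n < i
  · exact hv.at_big i hin
  push Not at hin
  refine eq_one_of_natDegree (hv.monic i) ?_
  by_contra hne
  have h1 : i * (v i).natDegree ≤ n :=
    le_of_le_of_eq (Finset.single_le_sum (f := fun i => i * (v i).natDegree) (fun j _ => Nat.zero_le _)
      (Finset.mem_range.2 (by omega))) hv.weight
  have h2 : o ≤ (v i).natDegree := Nat.le_of_dvd (Nat.pos_of_ne_zero hne) (h i)
  have h3 := Nat.mul_le_mul_left i h2
  rw [mul_comm o i] at hi
  omega

theorem sum_eOf_periodic_le (o : ℕ) (ho : 0 < o) (hn : 1 ≤ n) :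
    (Fintype.card F - 1) * ∑ v ∈ @Finset.filter _
      (fun v => dTerm 1 n v = 1 ∧ ∀ i k, (v i).coeff k ≠ 0 → o ∣ k) (Classical.decPred _) (labels F n),
        eOf n v ≤ aBound (Fintype.card F) (n / o) := by
  classical
  set V := @Finset.filter _ (fun v => dTerm 1 n v = 1 ∧ ∀ i k, (v i).coeff k ≠ 0 → o ∣ k)
    (Classical.decPred _) (labels F n) with hV
  by_cases hne : V = ∅
  · simp [hne]
  obtain ⟨v0, hv0⟩ := Finset.nonempty_iff_ne_empty.2 hne
  have facts : ∀ v ∈ V, IsLabel n v ∧ dTerm 1 n v = 1 ∧ (∀ i, o ∣ (v i).natDegree) ∧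
      (∀ i, expand F o (contract o (v i)) = v i) := by
    intro v hv
    simp only [hV, Finset.mem_filter] at hv
    obtain ⟨hvl, hd, hk⟩ := hv
    have hl := mem_labels.1 hvl
    refine ⟨hl, hd, fun i => hk i _ (by rw [(hl.monic i).coeff_natDegree]; exact one_ne_zero), fun i => ?_⟩
    ext k
    rw [coeff_expand ho]
    split_ifs with hok
    · rw [coeff_contract ho.ne', Nat.div_mul_cancel hok]
    · exact (by_contra fun h => hok (hk i k (Ne.symm h)))
  obtain ⟨hl0, -, hdeg0, -⟩ := facts v0 hv0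
  have hon : o ∣ n := by
    rw [← hl0.weight]
    exact Finset.dvd_sum fun i _ => dvd_mul_of_dvd_right (hdeg0 i) _
  have hm : 1 ≤ n / o := Nat.div_pos (Nat.le_of_dvd hn hon) ho
  refine le_trans (le_trans (Nat.mul_le_mul_left _ ?_) (sum_eOf_le o (n / o))) (aCount_le F _ hm)
  let Ψ : (ℕ → F[X]) → ℕ → F[X] := fun v i => contract o (v i)
  have facts2 : ∀ v ∈ V, IsLabel (n / o) (Ψ v) ∧ dTerm o (n / o) (Ψ v) = 1 ∧ eOf (n / o) (Ψ v) = eOf n v := by
    intro v hv
    obtain ⟨hl, hd, hdeg, hexp⟩ := facts v hv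
    have hnat : ∀ i, (v i).natDegree = (Ψ v i).natDegree * o := fun i => by
      conv_lhs => rw [← hexp i, natDegree_expand]
    have hcoeff : ∀ i, (Ψ v i).coeff 0 = (v i).coeff 0 := fun i => by
      show (contract o (v i)).coeff 0 = _
      rw [coeff_contract ho.ne', zero_mul]
    have hone : ∀ i, Ψ v i = 1 ↔ v i = 1 := fun i => by
      refine ⟨fun h => by rw [← hexp i]; show expand F o (Ψ v i) = 1; rw [h, map_one], fun h => ?_⟩
      apply expand_injective (R := F) ho
      show expand F o (contract o (v i)) = expand F o 1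
      rw [hexp i, map_one, h]
    have hbig : ∀ i, n / o < i → v i = 1 := fun i hi =>
      hl.eq_one_of_lt_of_dvd hdeg (by
        calc n = o * (n / o) := (Nat.mul_div_cancel' hon).symm
          _ < o * i := (Nat.mul_lt_mul_left ho).2 hi)
    have hsub : Finset.range (n / o + 1) ⊆ Finset.range (n + 1) :=
      Finset.range_subset_range.2 (by have := Nat.div_le_self n o; omega)
    refine ⟨⟨fun i => ?_, fun i => by rw [hcoeff i]; exact hl.coeff_zero i, (hone 0).2 hl.at_zero,
      fun i hi => (hone i).2 (hbig i hi), ?_⟩, ?_, ?_⟩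
    · exact (monic_expand_iff ho).1 (by rw [hexp i]; exact hl.monic i)
    · refine Nat.eq_of_mul_eq_mul_left ho ?_
      rw [Nat.mul_div_cancel' hon, Finset.mul_sum]
      conv_rhs => rw [← hl.weight]
      refine (Finset.sum_congr rfl fun i _ => ?_).trans
        (Finset.sum_subset hsub fun i _ hi => by rw [hbig i (by simpa using hi)]; simp)
      rw [hnat i]; ring
    · conv_rhs => rw [← hd]
      unfold dTerm
      refine (Finset.prod_congr rfl fun i _ => ?_).trans
        (Finset.prod_subset hsub fun i _ hi => by rw [hbig i (by simpa using hi)]; simp)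
      rw [hcoeff i, one_mul, hnat i, mul_comm o]
    · unfold eOf
      congr 2
      ext i
      simp only [Finset.mem_filter, Finset.mem_range, ne_eq, hone i]
      refine ⟨fun h => ⟨by have := Nat.div_le_self n o; omega, h.2⟩, fun h => ⟨?_, h.2⟩⟩
      by_contra hlt
      exact h.2 (hbig i (by omega))
  calc ∑ v ∈ V, eOf n v = ∑ v ∈ V, eOf (n / o) (Ψ v) := Finset.sum_congr rfl fun v hv => (facts2 v hv).2.2.symm
    _ = ∑ w ∈ V.image Ψ, eOf (n / o) w := by
        rw [Finset.sum_image]
        intro v hv w hw h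
        funext i
        rw [← (facts v hv).2.2.2 i, ← (facts w hw).2.2.2 i]
        exact congrArg (expand F o) (congrFun h i)
    _ ≤ _ := by
        refine Finset.sum_le_sum_of_subset (Finset.image_subset_iff.2 fun v hv => ?_)
        exact Finset.mem_filter.2 ⟨mem_labels.2 (facts2 v hv).1, (facts2 v hv).2.1⟩

/-- Translation of classes by central elements. -/
noncomputable instance instCenterConjClasses :
    MulAction (Subgroup.center SL(n, F)) (ConjClasses SL(n, F)) where
  smul z := Quotient.map (fun g => (z : SL(n, F)) * g) (fun a b hab => by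
    obtain ⟨u, hu⟩ := isConj_iff.1 hab
    refine isConj_iff.2 ⟨u, ?_⟩
    rw [← mul_assoc u, Subgroup.mem_center_iff.1 z.2 u, mul_assoc, mul_assoc, ← mul_assoc u, hu])
  one_smul c := by
    induction c using Quotient.inductionOn with
    | _ g => show ConjClasses.mk ((1 : SL(n, F)) * g) = ConjClasses.mk g; rw [one_mul]
  mul_smul z w c := by
    induction c using Quotient.inductionOn with
    | _ g =>
      show ConjClasses.mk (((z * w : Subgroup.center SL(n, F)) : SL(n, F)) * g) =
        ConjClasses.mk ((z : SL(n, F)) * ((w : SL(n, F)) * g))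
      rw [Subgroup.coe_mul, mul_assoc]

omit [Fintype F] in
theorem smul_mk (z : Subgroup.center SL(n, F)) (g : SL(n, F)) :
    z • ConjClasses.mk g = ConjClasses.mk ((z : SL(n, F)) * g) := rfl

omit [Fintype F] in
/-- The scalar of a central element. -/
theorem exists_center_scalar (hn : 1 ≤ n) :
    ∃ sc : Subgroup.center SL(n, F) →* Fˣ, Function.Injective sc ∧
      ∀ z : Subgroup.center SL(n, F), ((z : SL(n, F)) : Matrix (Fin n) (Fin n) F) = Matrix.scalar (Fin n) (sc z : F) ∧
        (sc z : F) ^ n = 1 := by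
  have : Nonempty (Fin n) := ⟨⟨0, hn⟩⟩
  have hz : ∀ z : Subgroup.center SL(n, F), ∃ r : F,
      r ^ n = 1 ∧ Matrix.scalar (Fin n) r = ((z : SL(n, F)) : Matrix (Fin n) (Fin n) F) := fun z => by
    simpa using Matrix.SpecialLinearGroup.mem_center_iff.1 z.2
  choose r hr hs using hz
  have hinj : Function.Injective (Matrix.scalar (Fin n) : F → Matrix (Fin n) (Fin n) F) :=
    fun a b h => Matrix.scalar_inj.1 h
  have hne : ∀ z, r z ≠ 0 := fun z h => by
    have h1 := hr z; rw [h, zero_pow (by omega)] at h1; exact zero_ne_one h1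
  refine ⟨MonoidHom.mk' (fun z => Units.mk0 (r z) (hne z)) (fun z w => Units.ext (hinj ?_)),
    fun z w h => Subtype.ext (Subtype.ext ?_), fun z => ⟨(hs z).symm, hr z⟩⟩
  · show Matrix.scalar (Fin n) (r (z * w)) = Matrix.scalar (Fin n) (r z * r w)
    rw [hs, map_mul, hs, hs]; rfl
  · rw [← hs z, ← hs w]
    exact congrArg (fun u : Fˣ => Matrix.scalar (Fin n) (u : F)) h

theorem card_fixed_mul_le (hn : 1 ≤ n) (z : Subgroup.center SL(n, F)) :
    (Fintype.card F - 1) * Nat.card (MulAction.fixedBy (ConjClasses SL(n, F)) z) ≤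
      aBound (Fintype.card F) (n / orderOf z) := by
  classical
  obtain ⟨sc, hinj, hsc⟩ := exists_center_scalar (F := F) hn
  refine le_trans (Nat.mul_le_mul_left _ (card_classes_le_sum _ _ fun c hc => ?_))
    (sum_eOf_periodic_le (orderOf z) (orderOf_pos z) hn)
  set g : SL(n, F) := Quotient.out c with hg
  have hcg : c = ConjClasses.mk g := (Quotient.out_eq c).symm
  have hfix : z • c = c := hc
  rw [hcg, smul_mk] at hfix
  have hl : lab (((z : SL(n, F)) * g : SL(n, F)) : Matrix (Fin n) (Fin n) F) =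
      lab (g : Matrix (Fin n) (Fin n) F) := by
    rw [← slLab_mk, hfix, slLab_mk]
  have hmat : (((z : SL(n, F)) * g : SL(n, F)) : Matrix (Fin n) (Fin n) F) =
      (sc z : F) • (g : Matrix (Fin n) (Fin n) F) := by
    rw [Matrix.SpecialLinearGroup.coe_mul, (hsc z).1, Matrix.scalar_apply, ← Matrix.smul_eq_diagonal_mul]
  obtain ⟨E, hE⟩ := (exists_decomp (g : Matrix (Fin n) (Fin n) F)).some.exists_smul (sc z).ne_zero
  rw [hmat, lab_eq E] at hl
  simp only [Finset.mem_filter]
  refine ⟨mem_labels.2 (lab_isLabel (by simp)), by rw [slLab, dTerm_lab]; simp, fun i k hk => ?_⟩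
  have hdeg : ∀ j, (lab (g : Matrix (Fin n) (Fin n) F) i).coeff j ≠ 0 →
      orderOf z ∣ (lab (g : Matrix (Fin n) (Fin n) F) i).natDegree - j := by
    intro j hj
    have h1 := hE i
    rw [congrFun hl i] at h1
    have h2 := congrArg (fun f : F[X] => f.coeff j) h1
    simp only [coeff_scaleRoots] at h2
    rw [← orderOf_injective sc hinj, orderOf_dvd_iff_pow_eq_one, Units.ext_iff, Units.val_pow_eq_pow_val,
      Units.val_one]
    exact mul_left_cancel₀ hj (by rw [mul_one]; exact h2.symm)
  have hd0 := hdeg 0 ((lab_isLabel (by simp)).coeff_zero i)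
  rw [Nat.sub_zero] at hd0
  exact (Nat.dvd_sub_iff_right (le_natDegree_of_ne_zero hk) hd0).1 (hdeg k hk)

omit [Fintype F] in
theorem conjClasses_map_surjective :
    Function.Surjective (ConjClasses.map
      (QuotientGroup.mk' (Subgroup.center SL(n, F)))) :=
  ConjClasses.map_surjective (QuotientGroup.mk'_surjective _)

omit [Fintype F] in
theorem exists_smul_of_map_eq {c d : ConjClasses SL(n, F)}
    (h : ConjClasses.map (QuotientGroup.mk' (Subgroup.center SL(n, F))) c =
      ConjClasses.map (QuotientGroup.mk' (Subgroup.center SL(n, F))) d) :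
    ∃ z : Subgroup.center SL(n, F), z • c = d := by
  induction c using Quotient.inductionOn with
  | _ a =>
    induction d using Quotient.inductionOn with
    | _ b =>
      obtain ⟨u', hu⟩ := isConj_iff.1 (ConjClasses.mk_eq_mk_iff_isConj.1 h)
      obtain ⟨u, rfl⟩ := QuotientGroup.mk'_surjective _ u'
      rw [← map_inv, ← map_mul, ← map_mul] at hu
      obtain ⟨z, hz, he⟩ := (QuotientGroup.mk'_eq_mk' _).1 hu
      refine ⟨⟨z, hz⟩, ?_⟩
      show ConjClasses.mk (z * a) = ConjClasses.mk b
      refine ConjClasses.mk_eq_mk_iff_isConj.2 (isConj_iff.2 ⟨u, ?_⟩)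
      rw [← he, ← mul_assoc u, Subgroup.mem_center_iff.1 hz u]
      rw [Subgroup.mem_center_iff.1 hz (u * a * u⁻¹)]
      group

theorem card_sl_le_card_center_mul :
    Nat.card (ConjClasses SL(n, F)) ≤
      Nat.card (Subgroup.center SL(n, F)) *
        Nat.card (ConjClasses (SL(n, F) ⧸ Subgroup.center SL(n, F))) := by
  classical
  choose s hs using conjClasses_map_surjective (F := F) (n := n)
  rw [← Nat.card_prod]
  refine Nat.card_le_card_of_surjective (fun p => p.1 • s p.2) fun c => ?_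
  obtain ⟨z, hz⟩ := exists_smul_of_map_eq
    (hs (ConjClasses.map (QuotientGroup.mk' (Subgroup.center SL(n, F))) c))
  exact ⟨(z, _), hz⟩

theorem mul_card_psl_le [Fintype (Subgroup.center SL(n, F))] :
    Nat.card (Subgroup.center SL(n, F)) *
        Nat.card (ConjClasses (SL(n, F) ⧸ Subgroup.center SL(n, F))) ≤
      ∑ z : Subgroup.center SL(n, F), Nat.card (MulAction.fixedBy (ConjClasses SL(n, F)) z) := by
  classical
  have : Fintype (ConjClasses SL(n, F)) := Fintype.ofFinite _
  have : Fintype (Quotient (MulAction.orbitRel (Subgroup.center SL(n, F)) (ConjClasses SL(n, F)))) :=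
    Fintype.ofFinite _
  have hb := MulAction.sum_card_fixedBy_eq_card_orbits_mul_card_group
    (Subgroup.center SL(n, F)) (ConjClasses SL(n, F))
  simp only [Nat.card_eq_fintype_card (α := MulAction.fixedBy _ _)]
  rw [hb, mul_comm, Nat.card_eq_fintype_card (α := Subgroup.center SL(n, F))]
  gcongr
  rw [← Nat.card_eq_fintype_card]
  refine Nat.card_le_card_of_surjective
    (Quotient.lift (ConjClasses.map (QuotientGroup.mk' (Subgroup.center SL(n, F)))) ?_) ?_
  · rintro a b ⟨z, rfl⟩
    show ConjClasses.map _ (z • b) = ConjClasses.map _ b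
    induction b using Quotient.inductionOn with
    | _ g =>
      show ConjClasses.mk (QuotientGroup.mk' _ ((z : SL(n, F)) * g)) = ConjClasses.mk (QuotientGroup.mk' _ g)
      congr 1
      rw [map_mul, QuotientGroup.mk'_apply, (QuotientGroup.eq_one_iff _).2 z.2, one_mul]
  · intro c
    obtain ⟨a, rfl⟩ := conjClasses_map_surjective (F := F) (n := n) c
    exact ⟨Quotient.mk _ a, rfl⟩

end CfsgLib.ClassNum
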