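import Mathlib.Algebra.Polynomial.Monic
import Mathlib.Algebra.BigOperators.Fin
import Mathlib.FieldTheory.Finite.Basic
import Mathlib.Data.Nat.GCD.BigOperators
import Mathlib.Tactic.Ring
import Mathlib.Tactic.Linarith

/-! Counting tuples of monic polynomials weighted like class labels of general linear groups. -/

set_option autoImplicit false

namespace CfsgLib.ClassNum

/-- `∑_{d} q^d f(n - k(d+1))`. -/
def geo (q : ℕ) (f : ℕ → ℕ) (k n : ℕ) : ℕ :=
  ∑ d ∈ Finset.range (n / k), q ^ d * f (n - k * (d + 1))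

/-- The number of labels with parts at most `K` and total weight `n`. -/
def bCount (q : ℕ) : ℕ → ℕ → ℕ
  | 0, n => if n = 0 then 1 else 0
  | K + 1, n => bCount q K n + (q - 1) * geo q (bCount q K) (K + 1) n

theorem bCount_succ (q K n : ℕ) :
    bCount q (K + 1) n = bCount q K n + (q - 1) * geo q (bCount q K) (K + 1) n := rfl

theorem bCount_zero_right (q : ℕ) : ∀ K, bCount q K 0 = 1
  | 0 => rfl
  | K + 1 => by simp [bCount_succ, geo, bCount_zero_right q K]

theorem geo_step (q : ℕ) (f : ℕ → ℕ) {k n : ℕ} (hk : 0 < k) (h : k ≤ n) :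
    geo q f k n = f (n - k) + q * geo q f k (n - k) := by
  have hdiv : n / k = (n - k) / k + 1 := by
    rw [← Nat.add_div_right _ hk, Nat.sub_add_cancel h]
  rw [geo, hdiv, Finset.sum_range_succ', geo, Finset.mul_sum, add_comm]
  congr 1
  · simp
  · refine Finset.sum_congr rfl fun d _ => ?_
    rw [Nat.mul_succ k (d + 1), Nat.sub_sub, add_comm k (k * (d + 1)), pow_succ]
    ring

theorem geo_bound {q : ℕ} (hq : 1 ≤ q) (f : ℕ → ℕ) (K : ℕ) (h0 : f 0 = 1)
    (hf : ∀ m, 1 ≤ m → q ^ K * f m + q ^ m ≤ q ^ K * q ^ m) :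
    ∀ n, q ^ (K + 1) * geo q f (K + 1) n ≤ q ^ n := by
  intro n
  induction n using Nat.strong_induction_on with
  | _ n ih =>
    by_cases h : n < K + 1
    · simp [geo, Nat.div_eq_of_lt h]
    push Not at h
    obtain ⟨m, rfl⟩ := Nat.exists_eq_add_of_le' h
    rw [geo_step q f K.succ_pos h, Nat.add_sub_cancel, mul_add]
    have h1 := ih m (by omega)
    rcases Nat.eq_zero_or_pos m with rfl | hm
    · simp [geo, h0]
    · have h2 := hf m hm
      calc q ^ (K + 1) * f m + q ^ (K + 1) * (q * geo q f (K + 1) m)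
          = q * (q ^ K * f m + q ^ (K + 1) * geo q f (K + 1) m) := by ring
        _ ≤ q * (q ^ K * f m + q ^ m) := by gcongr
        _ ≤ q * (q ^ K * q ^ m) := by gcongr
        _ = q ^ (m + (K + 1)) := by ring

theorem bCount_bound {q : ℕ} (hq : 1 ≤ q) :
    ∀ K n, 1 ≤ n → q ^ K * bCount q K n + q ^ n ≤ q ^ K * q ^ n
  | 0, n, hn => by
    have : n ≠ 0 := by omega
    simp [bCount, this]
  | K + 1, n, hn => by
    have h1 := bCount_bound hq K n hn
    have h2 := geo_bound hq (bCount q K) K (bCount_zero_right q K) (bCount_bound hq K) n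
    obtain ⟨r, rfl⟩ : ∃ r, q = r + 1 := ⟨q - 1, by omega⟩
    rw [bCount_succ, Nat.add_sub_cancel]
    calc (r + 1) ^ (K + 1) *
            (bCount (r + 1) K n + r * geo (r + 1) (bCount (r + 1) K) (K + 1) n) + (r + 1) ^ n
        = (r + 1) * ((r + 1) ^ K * bCount (r + 1) K n) +
            r * ((r + 1) ^ (K + 1) * geo (r + 1) (bCount (r + 1) K) (K + 1) n) + (r + 1) ^ n := by
          ring
      _ ≤ (r + 1) * ((r + 1) ^ K * bCount (r + 1) K n) + r * (r + 1) ^ n + (r + 1) ^ n := by gcongr
      _ = (r + 1) * ((r + 1) ^ K * bCount (r + 1) K n + (r + 1) ^ n) := by ring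
      _ ≤ (r + 1) * ((r + 1) ^ K * (r + 1) ^ n) := by gcongr
      _ = (r + 1) ^ (K + 1) * (r + 1) ^ n := by ring

theorem bCount_lt {q : ℕ} (hq : 1 ≤ q) (n : ℕ) (hn : 1 ≤ n) : bCount q n n + 1 ≤ q ^ n := by
  have h := bCount_bound hq n n hn
  have hpos : 0 < q ^ n := pow_pos (by omega) _
  refine Nat.le_of_mul_le_mul_left ?_ hpos
  rw [mul_add, mul_one]
  exact h

open Polynomial

variable (F : Type*) [Field F] [Fintype F]

open Classical in
/-- Monic polynomials of degree `d + 1` with non-zero constant term. -/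
noncomputable def polys (d : ℕ) : Finset F[X] :=
  (Finset.univ : Finset (Fˣ × (Fin d → F))).image fun x =>
    X ^ (d + 1) + (∑ i : Fin d, C (x.2 i) * X ^ ((i : ℕ) + 1) + C (x.1 : F))

theorem card_polys_le (d : ℕ) :
    (polys F d).card ≤ (Fintype.card F - 1) * Fintype.card F ^ d := by
  classical
  refine le_trans Finset.card_image_le ?_
  rw [Finset.card_univ, Fintype.card_prod, Fintype.card_units, Fintype.card_fun, Fintype.card_fin]

variable {F}

theorem mem_polys {f : F[X]} {d : ℕ} (hm : f.Monic) (hd : f.natDegree = d + 1)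
    (h0 : f.coeff 0 ≠ 0) : f ∈ polys F d := by
  classical
  unfold polys
  simp only [Finset.mem_image]
  refine ⟨(Units.mk0 _ h0, fun i => f.coeff ((i : ℕ) + 1)), Finset.mem_univ _, ?_⟩
  conv_rhs => rw [hm.as_sum, hd]
  congr 1
  rw [Finset.sum_range_succ', ← Fin.sum_univ_eq_sum_range (fun i => C (f.coeff (i + 1)) * X ^ (i + 1)) d]
  simp

/-- A label: monic polynomials `v i` with non-zero constant term, of total weight `n`. -/
structure IsLabel (n : ℕ) (v : ℕ → F[X]) : Prop where
  monic : ∀ i, (v i).Monic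
  coeff_zero : ∀ i, (v i).coeff 0 ≠ 0
  at_zero : v 0 = 1
  at_big : ∀ i, n < i → v i = 1
  weight : ∑ i ∈ Finset.range (n + 1), i * (v i).natDegree = n

omit [Fintype F] in
theorem eq_one_of_natDegree {f : F[X]} (hm : f.Monic) (hd : f.natDegree = 0) : f = 1 :=
  hm.natDegree_eq_zero.1 hd

omit [Fintype F] in
theorem IsLabel.of_bound {n N : ℕ} {v : ℕ → F[X]} (hm : ∀ i, (v i).Monic)
    (hc : ∀ i, (v i).coeff 0 ≠ 0) (h0 : v 0 = 1) (hN : ∀ i, N < i → v i = 1)
    (hw : ∑ i ∈ Finset.range (N + 1), i * (v i).natDegree = n) : IsLabel n v := by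
  have hbig : ∀ i, n < i → v i = 1 := by
    intro i hi
    by_cases hiN : N < i
    · exact hN i hiN
    push Not at hiN
    refine eq_one_of_natDegree (hm i) ?_
    by_contra hne
    have h1 : i * (v i).natDegree ≤ n :=
      hw ▸ Finset.single_le_sum (f := fun i => i * (v i).natDegree) (fun j _ => Nat.zero_le _)
        (Finset.mem_range.2 (by omega))
    have := Nat.le_mul_of_pos_right i (Nat.pos_of_ne_zero hne)
    omega
  refine ⟨hm, hc, h0, hbig, ?_⟩
  conv_rhs => rw [← hw]
  rcases le_total n N with h | h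
  · refine Finset.sum_subset (Finset.range_subset_range.2 (by omega)) fun i _ hi => ?_
    rw [hbig i (by simpa using hi)]; simp
  · refine (Finset.sum_subset (Finset.range_subset_range.2 (by omega)) fun i _ hi => ?_).symm
    rw [hN i (by simpa using hi)]; simp

variable (F)

open Classical in
/-- All functions with parts at most `K` and weight `n`. -/
noncomputable def boundedLabels : ℕ → ℕ → Finset (ℕ → F[X])
  | 0, n => if n = 0 then {fun _ => 1} else ∅
  | K + 1, n => boundedLabels K n ∪ (Finset.range (n / (K + 1))).biUnion fun d =>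
      (polys F d ×ˢ boundedLabels K (n - (K + 1) * (d + 1))).image fun x =>
        Function.update x.2 (K + 1) x.1

theorem card_boundedLabels_le : ∀ K n, (boundedLabels F K n).card ≤ bCount (Fintype.card F) K n
  | 0, n => by
    unfold boundedLabels bCount
    split_ifs <;> simp
  | K + 1, n => by
    classical
    rw [boundedLabels, bCount_succ]
    refine le_trans (Finset.card_union_le _ _) (Nat.add_le_add (card_boundedLabels_le K n) ?_)
    refine le_trans Finset.card_biUnion_le ?_
    rw [geo, Finset.mul_sum]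
    refine Finset.sum_le_sum fun d _ => ?_
    refine le_trans Finset.card_image_le ?_
    rw [Finset.card_product, ← mul_assoc]
    exact Nat.mul_le_mul (card_polys_le F d) (card_boundedLabels_le K _)

variable {F}

theorem mem_boundedLabels : ∀ (K n : ℕ) (v : ℕ → F[X]), (∀ i, (v i).Monic) →
    (∀ i, (v i).coeff 0 ≠ 0) → v 0 = 1 → (∀ i, K < i → v i = 1) →
    ∑ i ∈ Finset.range (K + 1), i * (v i).natDegree = n → v ∈ boundedLabels F K n
  | 0, n, v, _, _, h0, hb, hw => by
    simp only [zero_add, Finset.sum_range_one, zero_mul] at hw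
    subst hw
    rw [boundedLabels, if_pos rfl, Finset.mem_singleton]
    funext i
    rcases Nat.eq_zero_or_pos i with rfl | hi
    exacts [h0, hb i hi]
  | K + 1, n, v, hm, hc, h0, hb, hw => by
    classical
    rw [boundedLabels, Finset.mem_union]
    rw [Finset.sum_range_succ] at hw
    by_cases hd : (v (K + 1)).natDegree = 0
    · refine Or.inl (mem_boundedLabels K n v hm hc h0 (fun i hi => ?_) (by simpa [hd] using hw))
      rcases Nat.eq_or_lt_of_le hi with rfl | hi'
      exacts [eq_one_of_natDegree (hm _) hd, hb i hi']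
    · obtain ⟨d, hd'⟩ := Nat.exists_eq_succ_of_ne_zero hd
      rw [hd', Nat.succ_eq_add_one] at hw
      have hdn : d < n / (K + 1) := by
        rw [Nat.lt_iff_add_one_le, Nat.le_div_iff_mul_le K.succ_pos, mul_comm]
        exact le_trans (Nat.le_add_left _ _) hw.le
      refine Or.inr (Finset.mem_biUnion.2 ⟨d, Finset.mem_range.2 hdn, Finset.mem_image.2
        ⟨(v (K + 1), Function.update v (K + 1) 1), ?_, ?_⟩⟩)
      · refine Finset.mem_product.2 ⟨mem_polys (hm _) hd' (hc _),
          mem_boundedLabels K _ _ ?_ ?_ ?_ ?_ ?_⟩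
        · exact fun i => by
            rcases eq_or_ne i (K + 1) with rfl | hi <;> simp [monic_one, hm _, *]
        · exact fun i => by
            rcases eq_or_ne i (K + 1) with rfl | hi <;> simp [hc _, *]
        · simp [h0]
        · intro i hi
          rcases eq_or_ne i (K + 1) with rfl | hi'
          · simp
          · simp [hi', hb i (by omega)]
        · rw [show ∑ i ∈ Finset.range (K + 1), i * (Function.update v (K + 1) 1 i).natDegree =
            ∑ i ∈ Finset.range (K + 1), i * (v i).natDegree from Finset.sum_congr rfl fun i hi => by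
              rw [Function.update_of_ne (Finset.mem_range.1 hi).ne]]
          omega
      · simp

variable (F)

/-- The finite set of labels of weight `n`. -/
noncomputable def labels (n : ℕ) : Finset (ℕ → F[X]) :=
  @Finset.filter _ (IsLabel n) (Classical.decPred _) (boundedLabels F n n)

variable {F}

theorem mem_labels {n : ℕ} {v : ℕ → F[X]} : v ∈ labels F n ↔ IsLabel n v := by
  classical
  refine ⟨fun h => ?_, fun h => ?_⟩
  · simp only [labels, Finset.mem_filter] at h; exact h.2
  · simp only [labels, Finset.mem_filter]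
    exact ⟨mem_boundedLabels n n v h.monic h.coeff_zero h.at_zero h.at_big h.weight, h⟩

theorem card_labels_le (n : ℕ) : (labels F n).card ≤ bCount (Fintype.card F) n n :=
  le_trans (Finset.card_le_card (@Finset.filter_subset _ _ (Classical.decPred _) _))
    (card_boundedLabels_le F n n)

open Classical in
/-- The greatest common divisor of `q - 1` and the indices in the support. -/
noncomputable def eOf (n : ℕ) (v : ℕ → F[X]) : ℕ :=
  Nat.gcd (Fintype.card F - 1) (((Finset.range (n + 1)).filter fun i => v i ≠ 1).gcd id)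

theorem eOf_pos (n : ℕ) (v : ℕ → F[X]) : 0 < eOf n v :=
  Nat.gcd_pos_of_pos_left _ (by have := Fintype.one_lt_card (α := F); omega)

theorem eOf_dvd_card_sub_one (n : ℕ) (v : ℕ → F[X]) : eOf n v ∣ Fintype.card F - 1 :=
  Nat.gcd_dvd_left _ _

theorem eOf_dvd {n : ℕ} {v : ℕ → F[X]} {i : ℕ} (hi : i ≤ n) (hv : v i ≠ 1) : eOf n v ∣ i := by
  classical
  refine dvd_trans (Nat.gcd_dvd_right _ _) ?_
  exact Finset.gcd_dvd (f := id) (Finset.mem_filter.2 ⟨Finset.mem_range.2 (by omega), hv⟩)

theorem eOf_dvd_of_label {n : ℕ} {v : ℕ → F[X]} (hv : IsLabel n v) : eOf n v ∣ n := by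
  nth_rewrite 2 [← hv.weight]
  refine Finset.dvd_sum fun i hi => ?_
  by_cases h : v i = 1
  · simp [h]
  · exact dvd_mul_of_dvd_left (eOf_dvd (by simpa [Nat.lt_succ_iff] using hi) h) _

variable (F)

/-- The weighted count of labels. -/
noncomputable def aCount (n : ℕ) : ℕ := ∑ v ∈ labels F n, eOf n v ^ 2

/-- The upper bound for `aCount`. -/
def aBound (q n : ℕ) : ℕ :=
  bCount q n n + ∑ e ∈ (Finset.Icc 2 n).filter (fun e => e ∣ n ∧ e ∣ q - 1),
    (e ^ 2 - 1) * bCount q (n / e) (n / e)

theorem aCount_le (n : ℕ) (hn : 1 ≤ n) : aCount F n ≤ aBound (Fintype.card F) n := by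
  classical
  set D := (Finset.Icc 2 n).filter (fun e => e ∣ n ∧ e ∣ Fintype.card F - 1) with hD
  have hsum : ∑ v ∈ labels F n, eOf n v ^ 2 =
      (labels F n).card + ∑ e ∈ D, ∑ _v ∈ (labels F n).filter (fun v => eOf n v = e), (e ^ 2 - 1) := by
    have h1 : ∀ v ∈ labels F n,
        eOf n v ^ 2 = 1 + ∑ e ∈ D, if eOf n v = e then e ^ 2 - 1 else 0 := by
      intro v hv
      rw [Finset.sum_ite_eq]
      have hpos := eOf_pos n v
      have hdn := eOf_dvd_of_label (mem_labels.1 hv)
      split_ifs with h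
      · have : 0 < eOf n v ^ 2 := pow_pos hpos 2
        omega
      · have : eOf n v = 1 := by
          by_contra hne
          exact h (Finset.mem_filter.2 ⟨Finset.mem_Icc.2 ⟨by omega, Nat.le_of_dvd hn hdn⟩, hdn,
            eOf_dvd_card_sub_one n v⟩)
        rw [this]; rfl
    rw [Finset.sum_congr rfl h1, Finset.sum_add_distrib, Finset.sum_comm, Finset.card_eq_sum_ones]
    congr 1
    exact Finset.sum_congr rfl fun e _ => (Finset.sum_filter _ _).symm
  rw [aCount, hsum]
  refine Nat.add_le_add (card_labels_le n) (Finset.sum_le_sum fun e he => ?_)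
  rw [Finset.sum_const, smul_eq_mul, mul_comm]
  gcongr
  refine le_trans ?_ (card_labels_le (F := F) (n / e))
  obtain ⟨he2, hen, -⟩ := Finset.mem_filter.1 he
  have he0 : 0 < e := by have := (Finset.mem_Icc.1 he2).1; omega
  have hsupp : ∀ v : ℕ → F[X], IsLabel n v → eOf n v = e → ∀ i, v i ≠ 1 → e ∣ i := by
    intro v hl heq i hi
    by_cases hin : i ≤ n
    · exact heq ▸ eOf_dvd hin hi
    · exact absurd (hl.at_big i (by omega)) hi
  refine Finset.card_le_card_of_injOn (fun v j => v (e * j)) (fun v hv => ?_) ?_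
  · obtain ⟨hvl, hve⟩ := Finset.mem_filter.1 hv
    have hl := mem_labels.1 hvl
    refine mem_labels.2 ⟨fun i => hl.monic _, fun i => hl.coeff_zero _, by simp [hl.at_zero],
      fun i hi => hl.at_big _ ?_, ?_⟩
    · calc n = e * (n / e) := (Nat.mul_div_cancel' hen).symm
        _ < e * i := (Nat.mul_lt_mul_left he0).2 hi
    · refine Nat.eq_of_mul_eq_mul_left he0 ?_
      rw [Nat.mul_div_cancel' hen, Finset.mul_sum]
      conv_rhs => rw [← hl.weight]
      refine Finset.sum_bij_ne_zero (fun j _ _ => e * j) (fun j hj _ => ?_)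
        (fun a _ _ b _ _ h => Nat.eq_of_mul_eq_mul_left he0 h) (fun i hi hne => ?_)
        (fun j _ _ => by ring)
      · have := Nat.mul_le_mul_left e (Nat.lt_succ_iff.1 (Finset.mem_range.1 hj))
        rw [Nat.mul_div_cancel' hen] at this
        exact Finset.mem_range.2 (by omega)
      · have hvi : v i ≠ 1 := by intro h; rw [h] at hne; simp at hne
        obtain ⟨j, rfl⟩ := hsupp v hl hve i hvi
        refine ⟨j, Finset.mem_range.2 ?_, ?_, rfl⟩
        · have h' := Nat.lt_succ_iff.1 (Finset.mem_range.1 hi)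
          exact Nat.lt_succ_iff.2 ((Nat.le_div_iff_mul_le he0).2 (by rwa [mul_comm]))
        · rwa [← mul_assoc]
  · intro v hv w hw h
    obtain ⟨hvl, hve⟩ := Finset.mem_filter.1 hv
    obtain ⟨hwl, hwe⟩ := Finset.mem_filter.1 hw
    funext i
    by_cases hi : e ∣ i
    · obtain ⟨j, rfl⟩ := hi
      exact congrFun h j
    · have h1 : v i = 1 := by_contra fun h' => hi (hsupp v (mem_labels.1 hvl) hve i h')
      have h2 : w i = 1 := by_contra fun h' => hi (hsupp w (mem_labels.1 hwl) hwe i h')
      rw [h1, h2]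

end CfsgLib.ClassNum
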