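import Cfsg.Agent.Lib.ClassNum.Count
import Mathlib.RingTheory.IntegralDomain
import Mathlib.GroupTheory.SpecificGroups.Cyclic
import Mathlib.Data.Int.GCD

/-! Labels with a prescribed determinant, counted through scaling of constant terms. -/

set_option autoImplicit false

namespace CfsgLib.ClassNum

open Polynomial

variable {F : Type*} [Field F]

/-- The determinant attached to a label, with degrees multiplied by `o`. -/
noncomputable def dTerm (o n : ℕ) (v : ℕ → F[X]) : F :=
  ∏ i ∈ Finset.range (n + 1), ((-1 : F) ^ (o * (v i).natDegree) * (v i).coeff 0) ^ i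

/-- A representation of the gcd of a finite set of natural numbers. -/
theorem exists_gcd_eq_sum (S : Finset ℕ) :
    ∃ m : ℕ → ℤ, ∑ i ∈ S, m i * (i : ℤ) = ((S.gcd id : ℕ) : ℤ) := by
  classical
  induction S using Finset.induction_on with
  | empty => exact ⟨0, by simp⟩
  | insert a S ha ih =>
    obtain ⟨m, hm⟩ := ih
    refine ⟨fun i => if i = a then Nat.gcdA a (S.gcd id) else Nat.gcdB a (S.gcd id) * m i, ?_⟩
    rw [Finset.sum_insert ha, Finset.gcd_insert]
    beta_reduce
    rw [if_pos rfl,
      Finset.sum_congr rfl (fun i hi => by rw [if_neg (ne_of_mem_of_not_mem hi ha), mul_assoc]),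
      ← Finset.mul_sum, hm]
    simp only [id, gcd_eq_nat_gcd]
    rw [Nat.gcd_eq_gcd_ab]
    ring

variable [Fintype F]

theorem natCard_range_powMonoidHom (e : ℕ) (he : e ∣ Fintype.card F - 1) :
    Nat.card (powMonoidHom e : Fˣ →* Fˣ).range * e = Fintype.card F - 1 := by
  have hcard : Nat.card Fˣ = Fintype.card F - 1 := by
    rw [Nat.card_units, Nat.card_eq_fintype_card]
  rw [IsCyclic.card_powMonoidHom_range, hcard, Nat.gcd_eq_right he, Nat.div_mul_cancel he]

theorem sum_eOf_le (o n : ℕ) :
    (Fintype.card F - 1) *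
        ∑ v ∈ @Finset.filter _ (fun v => dTerm o n v = 1) (Classical.decPred _) (labels F n), eOf n v
      ≤ aCount F n := by
  classical
  set D := (labels F n).filter (fun v => dTerm o n v = 1) with hD
  let supp : (ℕ → F[X]) → Finset ℕ := fun v => (Finset.range (n + 1)).filter fun i => v i ≠ 1
  -- exponents attached to a support
  have hex : ∀ S : Finset ℕ, ∃ m : ℕ → ℤ, ∀ a : Fˣ,
      ∏ i ∈ S, (a ^ m i) ^ i = a ^ Nat.gcd (Fintype.card F - 1) (S.gcd id) := by
    intro S
    obtain ⟨m, hm⟩ := exists_gcd_eq_sum S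
    refine ⟨fun i => Nat.gcdB (Fintype.card F - 1) (S.gcd id) * m i, fun a => ?_⟩
    have hprod : ∀ (f : ℕ → ℤ) (T : Finset ℕ), ∏ i ∈ T, (a ^ f i) ^ i = a ^ ∑ i ∈ T, f i * (i : ℤ) := by
      intro f T
      induction T using Finset.induction_on with
      | empty => simp
      | insert b T hb ih =>
        rw [Finset.prod_insert hb, Finset.sum_insert hb, ih, zpow_add, zpow_mul, zpow_natCast]
    rw [hprod, Finset.sum_congr rfl (fun i _ => mul_assoc _ _ _), ← Finset.mul_sum, hm,
      ← zpow_natCast, Nat.gcd_eq_gcd_ab, zpow_add, zpow_mul a ((Fintype.card F - 1 : ℕ) : ℤ),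
      zpow_natCast a (Fintype.card F - 1), ← Fintype.card_units (α := F), pow_card_eq_one, one_zpow,
      one_mul, mul_comm]
  choose mexp hmexp using hex
  -- chosen roots
  let root : ℕ → Fˣ → Fˣ := fun e l =>
    if h : ∃ a : Fˣ, a ^ e = l then h.choose else 1
  let t : (ℕ → F[X]) → Fˣ → ℕ → Fˣ := fun v l i => root (eOf n v) l ^ mexp (supp v) i
  let scale : (ℕ → F[X]) → Fˣ → ℕ → F[X] := fun v l i =>
    if v i = 1 then 1 else v i + C (((t v l i : F) - 1) * (v i).coeff 0)
  let P : (ℕ → F[X]) → Finset Fˣ := fun v => Finset.univ.filter fun l => ∃ a : Fˣ, a ^ eOf n v = l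
  have hP : ∀ v, (P v).card * eOf n v = Fintype.card F - 1 := by
    intro v
    rw [← natCard_range_powMonoidHom (eOf n v) (eOf_dvd_card_sub_one n v)]
    congr 1
    rw [Nat.card_eq_fintype_card]
    exact (Fintype.card_of_subtype _ (by simp [P, MonoidHom.mem_range])).symm
  have facts : ∀ v ∈ D, ∀ l ∈ P v, IsLabel n (scale v l) ∧ (∀ i, scale v l i = 1 ↔ v i = 1) ∧
      dTerm o n (scale v l) = (l : F) ∧
      (∀ i, v i ≠ 1 → (scale v l i).coeff 0 = (t v l i : F) * (v i).coeff 0) := by
    intro v hv l hl
    obtain ⟨hvl, hv1⟩ := Finset.mem_filter.1 hv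
    have hlab := mem_labels.1 hvl
    have hdeg : ∀ i, v i ≠ 1 → 0 < (v i).natDegree := fun i hi => Nat.pos_of_ne_zero
      fun h => hi (eq_one_of_natDegree (hlab.monic i) h)
    have hnat : ∀ i, (scale v l i).natDegree = (v i).natDegree := by
      intro i
      simp only [scale]
      split_ifs with h
      · rw [h]
      · exact natDegree_add_C
    have hmon : ∀ i, (scale v l i).Monic := by
      intro i
      simp only [scale]
      split_ifs with h
      · exact monic_one
      · refine (hlab.monic i).add_of_left (lt_of_le_of_lt degree_C_le ?_)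
        exact natDegree_pos_iff_degree_pos.1 (hdeg i h)
    have hco : ∀ i, v i ≠ 1 → (scale v l i).coeff 0 = (t v l i : F) * (v i).coeff 0 := by
      intro i hi
      simp only [scale, if_neg hi, coeff_add, coeff_C_zero]
      ring
    have hiff : ∀ i, scale v l i = 1 ↔ v i = 1 := by
      intro i
      refine ⟨fun h => ?_, fun h => by simp [scale, h]⟩
      by_contra hne
      have := hnat i
      rw [h, natDegree_one] at this
      exact absurd this (hdeg i hne).ne
    refine ⟨⟨hmon, fun i => ?_, (hiff 0).2 hlab.at_zero, fun i hi => (hiff i).2 (hlab.at_big i hi), ?_⟩,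
      hiff, ?_, hco⟩
    · by_cases hi : v i = 1
      · rw [(hiff i).2 hi]; simp
      · rw [hco i hi]; exact mul_ne_zero (Units.ne_zero _) (hlab.coeff_zero i)
    · rw [Finset.sum_congr rfl (fun i _ => by rw [hnat i])]; exact hlab.weight
    · have hstep : dTerm o n (scale v l) =
          (∏ i ∈ supp v, (t v l i : F) ^ i) * dTerm o n v := by
        rw [dTerm, dTerm, Finset.prod_filter, ← Finset.prod_mul_distrib]
        refine Finset.prod_congr rfl fun i _ => ?_
        rw [hnat i]
        by_cases hi : v i = 1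
        · rw [if_neg (not_not.2 hi), one_mul, (hiff i).2 hi, hi]
        · rw [if_pos hi, hco i hi, ← mul_pow]
          congr 1
          ring
      rw [hstep, hv1, mul_one]
      have h2 := congrArg (fun u : Fˣ => (u : F)) (hmexp (supp v) (root (eOf n v) l))
      simp only [Units.coe_prod, Units.val_pow_eq_pow_val] at h2
      simp only [t]
      rw [h2]
      have hex' : ∃ a : Fˣ, a ^ eOf n v = l := (Finset.mem_filter.1 hl).2
      show ((root (eOf n v) l : F)) ^ eOf n v = l
      simp only [root, dif_pos hex']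
      rw [← Units.val_pow_eq_pow_val, hex'.choose_spec]
  have hinj : Set.InjOn (fun p : (_ : ℕ → F[X]) × Fˣ => scale p.1 p.2) (D.sigma P) := by
    rintro ⟨v, l⟩ hp ⟨v', l'⟩ hp' heq
    obtain ⟨hv, hl⟩ := Finset.mem_sigma.1 hp
    obtain ⟨hv', hl'⟩ := Finset.mem_sigma.1 hp'
    dsimp only at heq
    obtain ⟨-, hiff, hd, hco⟩ := facts v hv l hl
    obtain ⟨-, hiff', hd', hco'⟩ := facts v' hv' l' hl'
    have hl2 : l = l' := Units.ext (by rw [← hd, ← hd', heq])
    subst hl2
    have hs : ∀ i, v i = 1 ↔ v' i = 1 := fun i => by rw [← hiff i, ← hiff' i, heq]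
    have hsupp : supp v = supp v' := Finset.filter_congr fun i _ => not_congr (hs i)
    have hee : eOf n v = eOf n v' := by
      show Nat.gcd _ ((supp v).gcd id) = Nat.gcd _ ((supp v').gcd id)
      rw [hsupp]
    have ht : t v l = t v' l := by funext i; simp only [t, hsupp, hee]
    have hvv : v = v' := by
      funext i
      by_cases hi : v i = 1
      · rw [hi, (hs i).1 hi]
      · have hi' : v' i ≠ 1 := fun h => hi ((hs i).2 h)
        have h3 := congrFun heq i
        simp only [scale, if_neg hi, if_neg hi', ← ht] at h3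
        have h5 := congrArg (fun f : F[X] => f.coeff 0) h3
        simp only [coeff_add, coeff_C_zero] at h5
        have h6 : (v i).coeff 0 = (v' i).coeff 0 :=
          mul_left_cancel₀ (Units.ne_zero (t v l i)) (by linear_combination h5)
        rw [h6] at h3
        exact add_right_cancel h3
    subst hvv
    rfl
  rw [Finset.mul_sum, aCount]
  calc ∑ v ∈ D, (Fintype.card F - 1) * eOf n v
      = ∑ p ∈ D.sigma P, eOf n p.1 ^ 2 := by
        rw [Finset.sum_sigma]
        refine Finset.sum_congr rfl fun v _ => ?_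
        dsimp only
        rw [Finset.sum_const, smul_eq_mul, ← hP v]
        ring
    _ = ∑ p ∈ D.sigma P, eOf n (scale p.1 p.2) ^ 2 := by
        refine Finset.sum_congr rfl fun p hp => ?_
        obtain ⟨hv, hl⟩ := Finset.mem_sigma.1 hp
        obtain ⟨-, hiff, -, -⟩ := facts _ hv _ hl
        show Nat.gcd _ ((supp p.1).gcd id) ^ 2 = Nat.gcd _ ((supp (scale p.1 p.2)).gcd id) ^ 2
        rw [show supp (scale p.1 p.2) = supp p.1 from
          Finset.filter_congr fun i _ => not_congr (hiff i)]
    _ = ∑ u ∈ (D.sigma P).image (fun p => scale p.1 p.2), eOf n u ^ 2 := by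
        rw [Finset.sum_image hinj]
    _ ≤ ∑ u ∈ labels F n, eOf n u ^ 2 := by
        refine Finset.sum_le_sum_of_subset (Finset.image_subset_iff.2 fun p hp => ?_)
        obtain ⟨hv, hl⟩ := Finset.mem_sigma.1 hp
        exact mem_labels.2 (facts _ hv _ hl).1

end CfsgLib.ClassNum
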