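import Cfsg.Agent.Lib.ClassNum.Summand
import Cfsg.Agent.Lib.ClassNum.Torus
import Cfsg.Agent.Lib.LinFix.Jordan
import Mathlib.Algebra.Module.PID
import Mathlib.Algebra.Polynomial.Module.AEval
import Mathlib.LinearAlgebra.Charpoly.Basic
import Mathlib.RingTheory.Polynomial.ScaleRoots

/-! Elementary divisor decompositions of matrices over a field and their labels. -/

set_option autoImplicit false

namespace CfsgLib.ClassNum

open Polynomial Module UniqueFactorizationMonoid

universe u

variable {F : Type u} [Field F] {n : ℕ}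

/-- An elementary divisor decomposition of a square matrix. -/
structure Decomp (g : Matrix (Fin n) (Fin n) F) : Type (u + 1) where
  /-- The index type of the summands. -/
  ι : Type u
  /-- The index type is finite. -/
  fin : Fintype ι
  /-- The irreducible polynomials. -/
  p : ι → F[X]
  /-- The exponents. -/
  e : ι → ℕ
  monic : ∀ i, (p i).Monic
  irred : ∀ i, Irreducible (p i)
  pos : ∀ i, 0 < e i
  /-- The isomorphism with the product of cyclic summands. -/
  iso : (Fin n → F) ≃ₗ[F] (∀ i, AdjoinRoot (p i ^ e i))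
  iso_mulVec : ∀ x i, iso (g.mulVec x) i = AdjoinRoot.root (p i ^ e i) * iso x i

theorem exists_decomp (g : Matrix (Fin n) (Fin n) F) : Nonempty (Decomp g) := by
  classical
  obtain ⟨ι, hfin, p, hp, e, ⟨φ⟩⟩ := Module.equiv_directSum_of_isTorsion
    (Module.AEval.isTorsion_of_finiteDimensional F (Fin n → F) (Matrix.toLin' g))
  letI := hfin
  let Φ : Module.AEval' (Matrix.toLin' g) ≃ₗ[F[X]] ((i : ι) → F[X] ⧸ Ideal.span {p i ^ e i}) :=
    φ.trans (DirectSum.linearEquivFunOnFintype F[X] ι _)
  have hspan : ∀ i, Ideal.span {p i ^ e i} = Ideal.span {normalize (p i) ^ e i} := fun i =>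
    Ideal.span_singleton_eq_span_singleton.2 ((normalize_associated (p i)).symm.pow_pow)
  let N : ((i : ι) → F[X] ⧸ Ideal.span {p i ^ e i}) ≃ₗ[F[X]]
      ((i : ι) → F[X] ⧸ Ideal.span {normalize (p i) ^ e i}) :=
    LinearEquiv.piCongrRight fun i => Submodule.quotEquivOfEq _ _ (hspan i)
  let ψ : (Fin n → F) ≃ₗ[F] ((i : ι) → F[X] ⧸ Ideal.span {normalize (p i) ^ e i}) :=
    (Module.AEval'.of (Matrix.toLin' g)).trans ((Φ.trans N).restrictScalars F)
  have hψ : ∀ v, ψ (g.mulVec v) = (X : F[X]) • ψ v := fun v => by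
    show (Φ.trans N) (Module.AEval'.of (Matrix.toLin' g) (g.mulVec v)) =
      (X : F[X]) • (Φ.trans N) (Module.AEval'.of (Matrix.toLin' g) v)
    rw [← map_smul, Module.AEval'.X_smul_of]
    rfl
  have hzero : ∀ (i : ι), e i = 0 → ∀ x : F[X] ⧸ Ideal.span {normalize (p i) ^ e i}, x = 0 := by
    intro i hi x
    obtain ⟨y, rfl⟩ := Ideal.Quotient.mk_surjective x
    rw [Ideal.Quotient.eq_zero_iff_mem, Ideal.mem_span_singleton, hi, pow_zero]
    exact one_dvd _
  let R : ((i : ι) → F[X] ⧸ Ideal.span {normalize (p i) ^ e i}) ≃ₗ[F]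
      ((i : {i : ι // 0 < e i}) → F[X] ⧸ Ideal.span {normalize (p i.1) ^ e i.1}) :=
    { toFun := fun x i => x i.1
      map_add' := fun _ _ => rfl
      map_smul' := fun _ _ => rfl
      invFun := fun y i => if h : 0 < e i then y ⟨i, h⟩ else 0
      left_inv := fun x => by
        funext i
        by_cases h : 0 < e i
        · simp [h]
        · simp only [dif_neg h]
          exact (hzero i (by omega) _).symm
      right_inv := fun y => by
        funext i
        simp [i.2] }
  exact ⟨{
    ι := {i : ι // 0 < e i}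
    fin := inferInstance
    p := fun i => normalize (p i.1)
    e := fun i => e i.1
    monic := fun i => Polynomial.monic_normalize (hp i.1).ne_zero
    irred := fun i => (normalize_associated (p i.1)).symm.irreducible (hp i.1)
    pos := fun i => i.2
    iso := ψ.trans R
    iso_mulVec := fun x i => by
      show ψ (g.mulVec x) i.1 = _ * ψ x i.1
      rw [hψ]
      obtain ⟨y, hy⟩ := Ideal.Quotient.mk_surjective (ψ x i.1)
      rw [Pi.smul_apply, ← hy]
      rfl }⟩

variable {g : Matrix (Fin n) (Fin n) F} (D : Decomp g)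

attribute [instance] Decomp.fin

instance finiteDimensional_summand (i : D.ι) : FiniteDimensional F (AdjoinRoot (D.p i ^ D.e i)) :=
  finiteDimensional_adjoinRoot ((D.monic i).pow _)

/-- The label of a decomposition. -/
noncomputable def Decomp.label (i : ℕ) : F[X] :=
  ∏ j ∈ Finset.univ.filter (fun j => D.e j = i), D.p j

theorem Decomp.sum_eq : ∑ j, D.e j * (D.p j).natDegree = n := by
  have h := D.iso.finrank_eq
  rw [Module.finrank_fin_fun, Module.finrank_pi_fintype] at h
  conv_rhs => rw [h]
  refine Finset.sum_congr rfl fun j _ => ?_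
  rw [finrank_adjoinRoot ((D.monic j).pow _), natDegree_pow]

theorem Decomp.e_le (j : D.ι) : D.e j ≤ n := by
  have h : D.e j * (D.p j).natDegree ≤ n :=
    le_of_le_of_eq (Finset.single_le_sum (f := fun j => D.e j * (D.p j).natDegree)
      (fun i _ => Nat.zero_le _) (Finset.mem_univ j)) D.sum_eq
  exact le_trans (Nat.le_mul_of_pos_right _ (D.irred j).natDegree_pos) h

theorem Decomp.coeff_zero_ne (hg : g.det ≠ 0) (j : D.ι) : (D.p j).coeff 0 ≠ 0 := by
  classical
  intro h0
  have hX : D.p j = X := by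
    have hd : X ∣ D.p j := X_dvd_iff.2 h0
    exact (eq_of_monic_of_associated monic_X (D.monic j)
      ((irreducible_X).associated_of_dvd (D.irred j) hd)).symm
  obtain ⟨x, hx⟩ := D.iso.surjective (Pi.single j (AdjoinRoot.mk _ (D.p j ^ (D.e j - 1))))
  have h1 : g.mulVec x = 0 := by
    apply D.iso.injective
    rw [map_zero]
    funext i
    rw [D.iso_mulVec, hx]
    rcases eq_or_ne i j with rfl | hi
    · rw [Pi.single_eq_same, ← AdjoinRoot.mk_X, ← map_mul, Pi.zero_apply, AdjoinRoot.mk_eq_zero]
      rw [show (X : F[X]) * D.p i ^ (D.e i - 1) = D.p i * D.p i ^ (D.e i - 1) by rw [hX],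
        ← pow_succ', Nat.sub_add_cancel (D.pos i)]
    · rw [Pi.single_eq_of_ne hi, mul_zero]; rfl
  have hx0 : x = 0 :=
    (Matrix.mulVec_injective_iff_isUnit.2 ((Matrix.isUnit_iff_isUnit_det g).2 (Ne.isUnit hg)))
      (h1.trans (Matrix.mulVec_zero g).symm)
  rw [hx0, map_zero] at hx
  have h2 := (congrFun hx j).symm
  rw [Pi.single_eq_same, Pi.zero_apply, AdjoinRoot.mk_eq_zero,
    pow_dvd_pow_iff (D.irred j).ne_zero (D.irred j).not_isUnit] at h2
  have := D.pos j
  omega

theorem Decomp.label_monic (i : ℕ) : (D.label i).Monic :=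
  monic_prod_of_monic _ _ fun j _ => D.monic j

theorem Decomp.natDegree_label (i : ℕ) :
    (D.label i).natDegree = ∑ j ∈ Finset.univ.filter (fun j => D.e j = i),
      (D.p j).natDegree := by
  classical
  unfold Decomp.label
  rw [natDegree_prod_of_monic _ _ fun j _ => D.monic j]

theorem Decomp.coeff_zero_label (i : ℕ) :
    (D.label i).coeff 0 = ∏ j ∈ Finset.univ.filter (fun j => D.e j = i),
      (D.p j).coeff 0 := by
  classical
  unfold Decomp.label
  simp only [coeff_zero_eq_eval_zero, eval_prod]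

theorem Decomp.isLabel (hg : g.det ≠ 0) : IsLabel n D.label := by
  classical
  refine ⟨D.label_monic, fun i => ?_, ?_, fun i hi => ?_, ?_⟩
  · rw [D.coeff_zero_label]
    exact Finset.prod_ne_zero_iff.2 fun j _ => D.coeff_zero_ne hg j
  · unfold Decomp.label
    rw [Finset.filter_false_of_mem fun j _ => (D.pos j).ne', Finset.prod_empty]
  · unfold Decomp.label
    rw [Finset.filter_false_of_mem fun j _ h => by have := D.e_le j; omega, Finset.prod_empty]
  · conv_rhs => rw [← D.sum_eq]
    rw [← Finset.sum_fiberwise_of_maps_to (t := Finset.range (n + 1))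
      (fun j _ => Finset.mem_range.2 (Nat.lt_succ_of_le (D.e_le j))) (fun j => D.e j * (D.p j).natDegree)]
    refine Finset.sum_congr rfl fun i _ => ?_
    rw [D.natDegree_label, Finset.mul_sum]
    refine Finset.sum_congr rfl fun j hj => ?_
    rw [(Finset.mem_filter.1 hj).2]

theorem Decomp.iso_aeval (h : F[X]) (x : Fin n → F) (i : D.ι) :
    D.iso ((aeval g h).mulVec x) i = mulBy (D.p i ^ D.e i) h (D.iso x i) := by
  rw [mulBy_apply]
  induction h using Polynomial.induction_on generalizing x with
  | C a =>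
    rw [aeval_C, Matrix.algebraMap_eq_diagonal]
    have : (Matrix.diagonal (algebraMap F (Fin n → F) a)).mulVec x = a • x := by
      ext k; simp [Matrix.mulVec_diagonal]
    rw [this, map_smul, Pi.smul_apply, AdjoinRoot.mk_C, Algebra.smul_def]
    rfl
  | add p q hp hq => rw [map_add, Matrix.add_mulVec, map_add, Pi.add_apply, hp, hq, map_add, add_mul]
  | monomial k a ih =>
    rw [pow_succ, ← mul_assoc, map_mul, aeval_X, ← Matrix.mulVec_mulVec, ih, D.iso_mulVec,
      map_mul (AdjoinRoot.mk _) (C a * X ^ k) X, AdjoinRoot.mk_X, mul_assoc]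

theorem Decomp.conj_aeval (h : F[X]) :
    D.iso.toLinearMap ∘ₗ Matrix.toLin' (aeval g h) ∘ₗ D.iso.symm.toLinearMap =
      piEnd (fun i => mulBy (D.p i ^ D.e i) h) := by
  refine LinearMap.ext fun y => funext fun i => ?_
  simp [D.iso_aeval, Matrix.toLin'_apply]

theorem Decomp.det_eq : g.det = dTerm 1 n D.label := by
  classical
  have h := D.conj_aeval X
  rw [aeval_X] at h
  rw [← LinearMap.det_toLin', ← LinearMap.det_conj (Matrix.toLin' g) D.iso, h, det_piEnd, dTerm,
    ← Finset.prod_fiberwise_of_maps_to (t := Finset.range (n + 1))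
      (fun j _ => Finset.mem_range.2 (Nat.lt_succ_of_le (D.e_le j)))]
  refine Finset.prod_congr rfl fun i _ => ?_
  rw [one_mul, D.natDegree_label, D.coeff_zero_label, ← Finset.prod_pow_eq_pow_sum,
    ← Finset.prod_mul_distrib, ← Finset.prod_pow]
  refine Finset.prod_congr rfl fun j hj => ?_
  rw [det_mulBy_eq_norm, norm_mk_X ((D.monic j).pow _), natDegree_pow, coeff_zero_eq_eval_zero,
    eval_pow, ← coeff_zero_eq_eval_zero, mul_pow, ← pow_mul, (Finset.mem_filter.1 hj).2,
    mul_comm i]

/-- The irreducible factors occurring with exponent `i`. -/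
noncomputable def Decomp.factorsAt (i : ℕ) : Multiset F[X] :=
  (Finset.univ.filter (fun j => D.e j = i)).val.map D.p

theorem Decomp.prod_factorsAt (i : ℕ) : (D.factorsAt i).prod = D.label i := rfl

theorem Decomp.factorsAt_eq (i : ℕ) [DecidableEq F] :
    D.factorsAt i = normalizedFactors (D.label i) := by
  classical
  rw [← D.prod_factorsAt, normalizedFactors_prod_eq _ ?_]
  · rw [eq_comm]
    refine (Multiset.map_congr rfl fun a ha => ?_).trans (Multiset.map_id _)
    obtain ⟨j, -, rfl⟩ := Multiset.mem_map.1 ha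
    exact (D.monic j).normalize_eq_self
  · intro a ha
    obtain ⟨j, -, rfl⟩ := Multiset.mem_map.1 ha
    exact D.irred j

theorem Decomp.count_factorsAt [DecidableEq F] (i : ℕ) (f : F[X]) :
    (D.factorsAt i).count f =
      (Finset.univ.filter fun j => D.p j = f ∧ D.e j = i).card := by
  classical
  rw [Decomp.factorsAt, Multiset.count_map, ← Finset.filter_val, Finset.filter_filter]
  show Finset.card _ = _
  congr 1
  ext j
  simp [eq_comm, and_comm]

theorem Decomp.finrank_range_aeval (h : F[X]) :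
    finrank F (LinearMap.range (Matrix.toLin' (aeval g h))) =
      ∑ j, finrank F (LinearMap.range (mulBy (D.p j ^ D.e j) h)) := by
  rw [← finrank_range_piEnd, ← D.conj_aeval h, LinearMap.range_comp,
    LinearMap.range_comp_of_range_eq_top _ (LinearEquiv.range _)]
  exact (LinearEquiv.finrank_map_eq D.iso _).symm

theorem Decomp.rank_formula [DecidableEq F] {f : F[X]} (hf : f.Monic) (hirr : Irreducible f) (k : ℕ) :
    finrank F (LinearMap.range (Matrix.toLin' (aeval g (f ^ k)))) =
      f.natDegree * LinFix.blockRank ((Finset.univ.filter fun j => D.p j = f).val.map D.e) k +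
        ∑ j ∈ Finset.univ.filter (fun j => ¬ D.p j = f), D.e j * (D.p j).natDegree := by
  rw [D.finrank_range_aeval, ← Finset.sum_filter_add_sum_filter_not Finset.univ (fun j => D.p j = f)]
  congr 1
  · rw [LinFix.blockRank, Multiset.map_map, ← Finset.sum_eq_multiset_sum, Finset.mul_sum]
    refine Finset.sum_congr rfl fun j hj => ?_
    have hpj := (Finset.mem_filter.1 hj).2
    rw [Function.comp_apply, hpj, finrank_range_mulBy_pow hf, mul_comm]
  · refine Finset.sum_congr rfl fun j hj => ?_
    rw [finrank_range_mulBy_of_isCoprime ((D.monic j).pow _), natDegree_pow]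
    refine IsCoprime.pow (hirr.coprime_iff_not_dvd.2 fun hd => (Finset.mem_filter.1 hj).2 ?_)
    exact (eq_of_monic_of_associated hf (D.monic j) (hirr.associated_of_dvd (D.irred j) hd)).symm

theorem Decomp.label_unique (D' : Decomp g) : D.label = D'.label := by
  classical
  funext i
  rw [← D.prod_factorsAt, ← D'.prod_factorsAt]
  refine congrArg Multiset.prod (Multiset.ext.2 fun f => ?_)
  rw [D.count_factorsAt, D'.count_factorsAt]
  by_cases hf : f.Monic ∧ Irreducible f
  · obtain ⟨hm, hirr⟩ := hf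
    set μ := (Finset.univ.filter fun j => D.p j = f).val.map D.e with hμ
    set μ' := (Finset.univ.filter fun j => D'.p j = f).val.map D'.e with hμ'
    have key : ∀ k, f.natDegree * LinFix.blockRank μ k +
        ∑ j ∈ Finset.univ.filter (fun j => ¬ D.p j = f), D.e j * (D.p j).natDegree =
        f.natDegree * LinFix.blockRank μ' k +
        ∑ j ∈ Finset.univ.filter (fun j => ¬ D'.p j = f), D'.e j * (D'.p j).natDegree := fun k =>
      (D.rank_formula hm hirr k).symm.trans (D'.rank_formula hm hirr k)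
    have hb : ∀ (E : Decomp g), LinFix.blockRank ((Finset.univ.filter fun j => E.p j = f).val.map E.e) n = 0 := by
      intro E
      rw [LinFix.blockRank, Multiset.map_map]
      refine Multiset.sum_eq_zero fun x hx => ?_
      obtain ⟨j, -, rfl⟩ := Multiset.mem_map.1 hx
      exact Nat.sub_eq_zero_of_le (E.e_le j)
    have hR := key n
    rw [hb D, hb D', mul_zero, zero_add, zero_add] at hR
    have hμμ : μ = μ' := by
      refine LinFix.eq_of_blockRank ?_ ?_ fun k => ?_
      · intro a ha; obtain ⟨j, -, rfl⟩ := Multiset.mem_map.1 ha; exact D.pos j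
      · intro a ha; obtain ⟨j, -, rfl⟩ := Multiset.mem_map.1 ha; exact D'.pos j
      · have := key k
        rw [hR, add_left_inj] at this
        exact Nat.eq_of_mul_eq_mul_left hirr.natDegree_pos this
    have := congrArg (Multiset.count i) hμμ
    rw [hμ, hμ', Multiset.count_map, Multiset.count_map, ← Finset.filter_val, ← Finset.filter_val,
      Finset.filter_filter, Finset.filter_filter] at this
    simpa [eq_comm, Finset.card_def] using this
  · have : ∀ (E : Decomp g), (Finset.univ.filter fun j => E.p j = f ∧ E.e j = i) = ∅ := fun E =>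
      Finset.filter_false_of_mem fun j _ h => hf (h.1 ▸ ⟨E.monic j, E.irred j⟩)
    rw [this D, this D']
    rfl

theorem Decomp.exists_intertwine {g' : Matrix (Fin n) (Fin n) F} (D' : Decomp g')
    (hl : D.label = D'.label) :
    ∃ T : (Fin n → F) ≃ₗ[F] (Fin n → F), ∀ x, T (g.mulVec x) = g'.mulVec (T x) := by
  classical
  have hcard : ∀ c : F[X] × ℕ, Fintype.card {j : D.ι // (D.p j, D.e j) = c} =
      Fintype.card {j : D'.ι // (D'.p j, D'.e j) = c} := by
    rintro ⟨f, i⟩
    have h := congrArg (fun v => (normalizedFactors (v i)).count f) hl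
    simp only [← Decomp.factorsAt_eq, Decomp.count_factorsAt] at h
    rw [Fintype.card_subtype, Fintype.card_subtype]
    simpa using h
  obtain ⟨σ, hσ⟩ : ∃ σ : D.ι ≃ D'.ι, ∀ j, (D'.p (σ j), D'.e (σ j)) = (D.p j, D.e j) :=
    ⟨Equiv.ofFiberEquiv fun c => Fintype.equivOfCardEq (hcard c), fun j =>
      Equiv.ofFiberEquiv_map (f := fun j => (D.p j, D.e j)) (g := fun j => (D'.p j, D'.e j))
        (fun c => Fintype.equivOfCardEq (hcard c)) j⟩
  clear hcard hl
  revert σ
  obtain ⟨ι', fin', p', e', -, -, -, iso', hiso'⟩ := D'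
  dsimp only
  intro σ hσ
  have hp : p' = fun j => D.p (σ.symm j) := by
    funext j; simpa using congrArg Prod.fst (hσ (σ.symm j))
  have he : e' = fun j => D.e (σ.symm j) := by
    funext j; simpa using congrArg Prod.snd (hσ (σ.symm j))
  clear hσ
  subst hp he
  refine ⟨(D.iso.trans (LinearEquiv.piCongrLeft' F (fun i => AdjoinRoot (D.p i ^ D.e i)) σ)).trans iso'.symm,
    fun x => iso'.injective ?_⟩
  funext i
  rw [hiso']
  simp [D.iso_mulVec, LinearEquiv.piCongrLeft'_apply]

theorem Decomp.exists_commute_det [Finite F] {i : ℕ} (hi : D.label i ≠ 1) (a : F) :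
    ∃ C : Matrix (Fin n) (Fin n) F, C.det = a ^ i ∧ C * g = g * C := by
  classical
  obtain ⟨j, -, hj⟩ : ∃ j ∈ (Finset.univ : Finset D.ι), D.e j = i := by
    by_contra h
    push Not at h
    exact hi (by unfold Decomp.label; rw [Finset.filter_false_of_mem h, Finset.prod_empty])
  obtain ⟨h, hh⟩ := exists_det_mulBy_eq (D.monic j) (D.irred j) (D.e j) a
  let m : ∀ i, Module.End F (AdjoinRoot (D.p i ^ D.e i)) :=
    Pi.mulSingle j (mulBy (D.p j ^ D.e j) h)
  let L : (Fin n → F) →ₗ[F] (Fin n → F) := D.iso.symm.toLinearMap ∘ₗ piEnd m ∘ₗ D.iso.toLinearMap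
  refine ⟨LinearMap.toMatrix' L, ?_, ?_⟩
  · rw [LinearMap.det_toMatrix', ← hj, ← hh, ← det_piEnd_single (M := fun i => AdjoinRoot (D.p i ^ D.e i)) j]
    exact LinearMap.det_conj _ D.iso.symm
  · apply Matrix.toLin'.injective
    rw [Matrix.toLin'_mul, Matrix.toLin'_mul, Matrix.toLin'_toMatrix']
    refine LinearMap.ext fun x => D.iso.injective (funext fun k => ?_)
    simp only [LinearMap.comp_apply, Matrix.toLin'_apply, L, LinearEquiv.coe_coe,
      LinearEquiv.apply_symm_apply, piEnd_apply, D.iso_mulVec]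
    rcases eq_or_ne k j with rfl | hk
    · simp only [m, Pi.mulSingle_eq_same, mulBy_apply]
      ring
    · simp [m, Pi.mulSingle_eq_of_ne hk]

theorem irreducible_scaleRoots {f : F[X]} (hf : Irreducible f) {ζ : F} (hζ : ζ ≠ 0) :
    Irreducible (f.scaleRoots ζ) := by
  refine ⟨fun h => hf.natDegree_pos.ne' ?_, fun a b hab => ?_⟩
  · rw [← natDegree_scaleRoots f ζ]; exact natDegree_eq_zero_of_isUnit h
  · have hback : f = a.scaleRoots ζ⁻¹ * b.scaleRoots ζ⁻¹ := by
      rw [← mul_scaleRoots_of_noZeroDivisors, ← hab, ← scaleRoots_mul, mul_inv_cancel₀ hζ,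
        scaleRoots_one]
    have hne : a ≠ 0 ∧ b ≠ 0 := mul_ne_zero_iff.1 (hab ▸ scaleRoots_ne_zero hf.ne_zero ζ)
    rcases hf.isUnit_or_isUnit hback with h | h
    · left
      rw [isUnit_iff_degree_eq_zero, ← degree_scaleRoots a (s := ζ⁻¹)]
      exact degree_eq_zero_of_isUnit h
    · right
      rw [isUnit_iff_degree_eq_zero, ← degree_scaleRoots b (s := ζ⁻¹)]
      exact degree_eq_zero_of_isUnit h

theorem pow_scaleRoots (f : F[X]) (ζ : F) (e : ℕ) :
    (f ^ e).scaleRoots ζ = f.scaleRoots ζ ^ e := by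
  induction e with
  | zero => simp
  | succ e ih => rw [pow_succ, pow_succ, mul_scaleRoots_of_noZeroDivisors, ih]

/-- The isomorphism induced by rescaling the variable. -/
noncomputable def scaleEquiv {P Q : F[X]} {ζ : F} (hζ : ζ ≠ 0) (hQ : Q = P.scaleRoots ζ) :
    AdjoinRoot P ≃ₐ[F] AdjoinRoot Q :=
  AlgEquiv.ofAlgHom
    (AdjoinRoot.liftAlgHom P (Algebra.ofId F _) (ζ⁻¹ • AdjoinRoot.root Q) (by
      subst hQ
      have h := scaleRoots_eval₂_mul (p := P) (algebraMap F (AdjoinRoot (P.scaleRoots ζ)))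
        (ζ⁻¹ • AdjoinRoot.root (P.scaleRoots ζ)) ζ
      rw [← Algebra.smul_def, smul_smul, mul_inv_cancel₀ hζ, one_smul] at h
      have h0 : eval₂ (algebraMap F (AdjoinRoot (P.scaleRoots ζ))) (AdjoinRoot.root (P.scaleRoots ζ))
          (P.scaleRoots ζ) = 0 := AdjoinRoot.eval₂_root _
      rw [h0] at h
      exact (IsUnit.mul_right_eq_zero ((IsUnit.map _ (Ne.isUnit hζ)).pow _)).1 h.symm))
    (AdjoinRoot.liftAlgHom Q (Algebra.ofId F _) (ζ • AdjoinRoot.root P) (by
      subst hQ
      rw [Algebra.smul_def]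
      exact scaleRoots_eval₂_eq_zero (algebraMap F (AdjoinRoot P)) (AdjoinRoot.eval₂_root P)))
    (AdjoinRoot.algHom_ext (by simp [smul_smul, hζ]))
    (AdjoinRoot.algHom_ext (by simp [smul_smul, hζ]))

theorem scaleEquiv_root {P Q : F[X]} {ζ : F} (hζ : ζ ≠ 0) (hQ : Q = P.scaleRoots ζ) :
    scaleEquiv hζ hQ (AdjoinRoot.root P) = ζ⁻¹ • AdjoinRoot.root Q := by
  simp [scaleEquiv]

/-- The decomposition of a scalar multiple. -/
theorem Decomp.exists_smul {ζ : F} (hζ : ζ ≠ 0) :
    ∃ E : Decomp (ζ • g), ∀ i, E.label i = (D.label i).scaleRoots ζ := by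
  classical
  refine ⟨{
    ι := D.ι
    fin := D.fin
    p := fun i => (D.p i).scaleRoots ζ
    e := D.e
    monic := fun i => (monic_scaleRoots_iff ζ).2 (D.monic i)
    irred := fun i => irreducible_scaleRoots (D.irred i) hζ
    pos := D.pos
    iso := D.iso.trans (LinearEquiv.piCongrRight fun i =>
      (scaleEquiv hζ (pow_scaleRoots (D.p i) ζ (D.e i)).symm).toLinearEquiv)
    iso_mulVec := fun x i => ?_ }, fun i => ?_⟩
  · rw [Matrix.smul_mulVec, LinearEquiv.trans_apply, LinearEquiv.trans_apply, map_smul, map_smul]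
    show ζ • scaleEquiv hζ (pow_scaleRoots (D.p i) ζ (D.e i)).symm (D.iso (g.mulVec x) i) =
      AdjoinRoot.root ((D.p i).scaleRoots ζ ^ D.e i) *
        scaleEquiv hζ (pow_scaleRoots (D.p i) ζ (D.e i)).symm (D.iso x i)
    rw [D.iso_mulVec, map_mul, scaleEquiv_root, smul_mul_assoc, smul_smul, mul_inv_cancel₀ hζ, one_smul]
  · show ∏ j ∈ Finset.univ.filter (fun j => D.e j = i), (D.p j).scaleRoots ζ = _
    unfold Decomp.label
    induction (Finset.univ.filter fun j => D.e j = i) using Finset.induction_on with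
    | empty => simp
    | insert a s ha ih =>
      rw [Finset.prod_insert ha, Finset.prod_insert ha, mul_scaleRoots_of_noZeroDivisors, ih]

end CfsgLib.ClassNum
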