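import Mathlib.RingTheory.AdjoinRoot
import Mathlib.RingTheory.Norm.Basic
import Mathlib.LinearAlgebra.Determinant
import Mathlib.LinearAlgebra.Matrix.Charpoly.Basic
import Mathlib.LinearAlgebra.Matrix.Charpoly.Minpoly
import Mathlib.FieldTheory.IsAlgClosed.AlgebraicClosure
import Mathlib.FieldTheory.Finite.GaloisField
import Mathlib.LinearAlgebra.FiniteDimensional.Lemmas

/-! Determinants and ranks of multiplications on `F[X]/(p^e)` and on finite products. -/

set_option autoImplicit false

namespace CfsgLib.ClassNum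

open Polynomial Module

section Pi

variable {R : Type*} [Field R] {ι : Type*} {M : ι → Type*} [∀ i, AddCommGroup (M i)] [∀ i, Module R (M i)]

/-- The componentwise endomorphism of a product. -/
def piEnd : (Π i, Module.End R (M i)) →* Module.End R (Π i, M i) where
  toFun f := LinearMap.pi fun i => (f i).comp (LinearMap.proj i)
  map_one' := rfl
  map_mul' _ _ := rfl

@[simp] theorem piEnd_apply (f : Π i, Module.End R (M i)) (x : Π i, M i) (i : ι) :
    piEnd f x i = f i (x i) := rfl

theorem det_piEnd_single [DecidableEq ι] [Fintype ι] [∀ i, FiniteDimensional R (M i)] (a : ι)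
    (h : Module.End R (M a)) :
    LinearMap.det (piEnd (Pi.mulSingle a h : Π i, Module.End R (M i))) = LinearMap.det h := by
  let e : (Π i, M i) ≃ₗ[R] M a × Π j : {j : ι // j ≠ a}, M j :=
    { Equiv.piSplitAt a M with
      map_add' := fun _ _ => rfl
      map_smul' := fun _ _ => rfl }
  have he : e.toLinearMap ∘ₗ piEnd (Pi.mulSingle a h : Π i, Module.End R (M i)) ∘ₗ e.symm.toLinearMap =
      h.prodMap LinearMap.id := by
    refine LinearMap.ext fun x => ?_
    obtain ⟨z, rfl⟩ := e.surjective x
    simp only [LinearMap.comp_apply, LinearEquiv.coe_coe, LinearEquiv.symm_apply_apply,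
      LinearMap.prodMap_apply, LinearMap.id_apply]
    refine Prod.ext ?_ (funext fun j => ?_)
    · show piEnd (Pi.mulSingle a h : Π i, Module.End R (M i)) z a = h (z a)
      simp
    · show piEnd (Pi.mulSingle a h : Π i, Module.End R (M i)) z j = z j
      simp [j.2]
  rw [← LinearMap.det_conj (piEnd (Pi.mulSingle a h : Π i, Module.End R (M i))) e, he,
    LinearMap.det_prodMap, LinearMap.det_id, mul_one]

theorem det_piEnd [Fintype ι] [∀ i, FiniteDimensional R (M i)] (f : Π i, Module.End R (M i)) :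
    LinearMap.det (piEnd f) = ∏ i, LinearMap.det (f i) := by
  classical
  suffices h : ∀ s : Finset ι,
      LinearMap.det (piEnd fun i => if i ∈ s then f i else 1) = ∏ i ∈ s, LinearMap.det (f i) by
    simpa using h Finset.univ
  intro s
  induction s using Finset.induction_on with
  | empty =>
    simp only [Finset.notMem_empty, if_false, Finset.prod_empty]
    exact LinearMap.det_id
  | insert a s ha ih =>
    have hf : (fun i => if i ∈ insert a s then f i else 1) =
        (Pi.mulSingle a (f a) : Π i, Module.End R (M i)) * fun i => if i ∈ s then f i else 1 := by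
      funext i
      rcases eq_or_ne i a with rfl | hi
      · simp [ha]
      · simp [hi]
    rw [hf, map_mul, map_mul, det_piEnd_single, ih, Finset.prod_insert ha]

theorem finrank_range_piEnd [Fintype ι] [∀ i, FiniteDimensional R (M i)] (f : Π i, Module.End R (M i)) :
    finrank R (LinearMap.range (piEnd f)) = ∑ i, finrank R (LinearMap.range (f i)) := by
  let L : (Π i, LinearMap.range (f i)) →ₗ[R] Π i, M i :=
    LinearMap.pi fun i => (Submodule.subtype _).comp (LinearMap.proj i)
  have hL : Function.Injective L := fun x y h => funext fun i => Subtype.ext (congrFun h i)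
  have hr : LinearMap.range L = LinearMap.range (piEnd f) := by
    apply le_antisymm
    · rintro _ ⟨x, rfl⟩
      choose y hy using fun i => (x i).2
      exact ⟨y, funext fun i => hy i⟩
    · rintro _ ⟨y, rfl⟩
      exact ⟨fun i => ⟨f i (y i), LinearMap.mem_range_self _ _⟩, rfl⟩
  rw [← hr, LinearMap.finrank_range_of_inj hL, Module.finrank_pi_fintype]

end Pi

variable {F : Type*} [Field F]

/-- Multiplication by a polynomial on `F[X]/(P)`. -/
noncomputable def mulBy (P h : F[X]) : Module.End F (AdjoinRoot P) :=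
  LinearMap.mulLeft F (AdjoinRoot.mk P h)

theorem mulBy_apply (P h : F[X]) (x : AdjoinRoot P) : mulBy P h x = AdjoinRoot.mk P h * x := rfl

theorem det_mulBy_eq_norm (P h : F[X]) :
    LinearMap.det (mulBy P h) = Algebra.norm F (AdjoinRoot.mk P h) := by
  rw [Algebra.norm_apply]
  rfl

theorem finrank_adjoinRoot {P : F[X]} (hP : P.Monic) : finrank F (AdjoinRoot P) = P.natDegree :=
  (AdjoinRoot.powerBasis' hP).finrank

theorem finiteDimensional_adjoinRoot {P : F[X]} (hP : P.Monic) :
    FiniteDimensional F (AdjoinRoot P) :=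
  (AdjoinRoot.powerBasis' hP).finite

/-- Evaluation of a determinant of a polynomial in a matrix, over an algebraically closed field. -/
theorem det_aeval_eq_prod {K : Type*} [Field K] [IsAlgClosed K] {ι : Type*} [Fintype ι] [DecidableEq ι]
    (A : Matrix ι ι K) (h : K[X]) :
    (aeval A h).det = h.leadingCoeff ^ Fintype.card ι *
      (h.roots.map fun r => (-1) ^ Fintype.card ι * A.charpoly.eval r).prod := by
  conv_lhs => rw [(IsAlgClosed.splits h).eq_prod_roots]
  rw [map_mul, aeval_C, Matrix.det_mul]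
  congr 1
  · rw [Matrix.algebraMap_eq_diagonal, Matrix.det_diagonal]
    simp
  · induction h.roots using Multiset.induction_on with
    | empty => simp
    | cons a s ih =>
      rw [Multiset.map_cons, Multiset.prod_cons, map_mul, Matrix.det_mul, ih, Multiset.map_cons,
        Multiset.prod_cons]
      congr 1
      rw [Matrix.eval_charpoly, ← Matrix.det_neg, neg_sub, map_sub, aeval_X, aeval_C]
      rfl

theorem det_aeval_of_charpoly_eq_pow {ι κ : Type*} [Fintype ι] [DecidableEq ι] [Fintype κ]
    [DecidableEq κ] (A : Matrix ι ι F) (B : Matrix κ κ F) (e : ℕ) (hAB : A.charpoly = B.charpoly ^ e)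
    (h : F[X]) : (aeval A h).det = (aeval B h).det ^ e := by
  let φ := algebraMap F (AlgebraicClosure F)
  have hcard : Fintype.card ι = e * Fintype.card κ := by
    have := congrArg natDegree hAB
    rwa [natDegree_pow, Matrix.charpoly_natDegree_eq_dim, Matrix.charpoly_natDegree_eq_dim] at this
  apply φ.injective
  rw [map_pow, φ.map_det, φ.map_det]
  have hA : φ.mapMatrix (aeval A h) = aeval (φ.mapMatrix A) (h.map φ) := by
    rw [aeval_map_algebraMap]
    exact (aeval_algHom_apply (Algebra.ofId F (AlgebraicClosure F)).mapMatrix A h).symm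
  have hB : φ.mapMatrix (aeval B h) = aeval (φ.mapMatrix B) (h.map φ) := by
    rw [aeval_map_algebraMap]
    exact (aeval_algHom_apply (Algebra.ofId F (AlgebraicClosure F)).mapMatrix B h).symm
  rw [hA, hB, det_aeval_eq_prod, det_aeval_eq_prod, mul_pow, ← pow_mul,
    mul_comm (Fintype.card κ) e, ← hcard, ← Multiset.prod_map_pow]
  congr 2
  refine Multiset.map_congr rfl fun r _ => ?_
  rw [RingHom.mapMatrix_apply, RingHom.mapMatrix_apply, Matrix.charpoly_map, Matrix.charpoly_map, hAB,
    Polynomial.map_pow, eval_pow, mul_pow, ← pow_mul, mul_comm (Fintype.card κ) e, ← hcard]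

theorem norm_mk_pow {p : F[X]} (hp : p.Monic) (e : ℕ) (h : F[X]) :
    Algebra.norm F (AdjoinRoot.mk (p ^ e) h) = Algebra.norm F (AdjoinRoot.mk p h) ^ e := by
  have key : ∀ {P : F[X]} (hP : P.Monic), ∃ A : Matrix (Fin (AdjoinRoot.powerBasis' hP).dim)
      (Fin (AdjoinRoot.powerBasis' hP).dim) F,
      A.charpoly = P ∧ Algebra.norm F (AdjoinRoot.mk P h) = (aeval A h).det := by
    intro P hP
    refine ⟨Algebra.leftMulMatrix (AdjoinRoot.powerBasis' hP).basis (AdjoinRoot.root P), ?_, ?_⟩
    · have h1 := charpoly_leftMulMatrix (AdjoinRoot.powerBasis' hP)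
      rw [AdjoinRoot.powerBasis'_gen] at h1
      rw [h1, AdjoinRoot.minpoly_root hP.ne_zero, hP.leadingCoeff, inv_one, C_1, mul_one]
    · rw [Algebra.norm_eq_matrix_det (AdjoinRoot.powerBasis' hP).basis,
        aeval_algHom_apply, AdjoinRoot.aeval_eq]
  obtain ⟨A, hA, hA'⟩ := key (hp.pow e)
  obtain ⟨B, hB, hB'⟩ := key hp
  rw [hA', hB', det_aeval_of_charpoly_eq_pow A B e (by rw [hA, hB]) h]

theorem norm_mk_X {P : F[X]} (hP : P.Monic) :
    Algebra.norm F (AdjoinRoot.mk P X) = (-1) ^ P.natDegree * P.coeff 0 := by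
  have h := Algebra.PowerBasis.norm_gen_eq_coeff_zero_minpoly (AdjoinRoot.powerBasis' hP)
  rw [AdjoinRoot.powerBasis'_gen, AdjoinRoot.minpoly_root hP.ne_zero, hP.leadingCoeff, inv_one, C_1,
    mul_one] at h
  rw [AdjoinRoot.mk_X, h]
  rfl

/-- Determinants of multiplications on `F[X]/(p^e)` cover all `e`-th powers. -/
theorem exists_det_mulBy_eq [Finite F] {p : F[X]} (hp : p.Monic) (hirr : Irreducible p) (e : ℕ)
    (a : F) : ∃ h : F[X], LinearMap.det (mulBy (p ^ e) h) = a ^ e := by
  haveI := Fact.mk hirr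
  haveI := finiteDimensional_adjoinRoot hp
  haveI : Finite (AdjoinRoot p) := Module.finite_of_finite F
  obtain ⟨y, hy⟩ := FiniteField.norm_surjective F (AdjoinRoot p) a
  obtain ⟨h, rfl⟩ := AdjoinRoot.mk_surjective y
  exact ⟨h, by rw [det_mulBy_eq_norm, norm_mk_pow hp, hy]⟩

theorem isUnit_mk_of_isCoprime {P h : F[X]} (hco : IsCoprime h P) : IsUnit (AdjoinRoot.mk P h) := by
  obtain ⟨a, b, hab⟩ := hco
  refine IsUnit.of_mul_eq_one (AdjoinRoot.mk P a) ?_
  have := congrArg (AdjoinRoot.mk P) hab
  rw [map_add, map_mul, map_mul, AdjoinRoot.mk_self, mul_zero, add_zero, map_one] at this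
  rw [mul_comm]; exact this

theorem finrank_range_mulBy_of_isCoprime {P h : F[X]} (hP : P.Monic) (hco : IsCoprime h P) :
    finrank F (LinearMap.range (mulBy P h)) = P.natDegree := by
  obtain ⟨u, hu⟩ := isUnit_mk_of_isCoprime hco
  rw [LinearMap.range_eq_top.2 fun y => ⟨(↑u⁻¹ : AdjoinRoot P) * y, by
    rw [mulBy_apply, ← hu, Units.mul_inv_cancel_left]⟩, finrank_top, finrank_adjoinRoot hP]

theorem finrank_range_mulBy_pow {p : F[X]} (hp : p.Monic) (e k : ℕ) :
    finrank F (LinearMap.range (mulBy (p ^ e) (p ^ k))) = (e - k) * p.natDegree := by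
  rcases le_or_gt e k with h | h
  · have h0 : AdjoinRoot.mk (p ^ e) (p ^ k) = 0 := AdjoinRoot.mk_eq_zero.2 (pow_dvd_pow p h)
    rw [mulBy, h0, LinearMap.mulLeft_zero_eq_zero, LinearMap.range_zero, finrank_bot,
      Nat.sub_eq_zero_of_le h, zero_mul]
  haveI := finiteDimensional_adjoinRoot (hp.pow (e - k))
  have hpow : p ^ k * p ^ (e - k) = p ^ e := by rw [← pow_add, Nat.add_sub_cancel' h.le]
  let L0 : (F[X] ⧸ Ideal.span {p ^ (e - k)}) →ₗ[F[X]] (F[X] ⧸ Ideal.span {p ^ e}) :=
    Submodule.mapQ _ _ (LinearMap.mulLeft F[X] (p ^ k)) (by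
      intro x hx
      rw [Ideal.mem_span_singleton] at hx
      simp only [Submodule.mem_comap, LinearMap.mulLeft_apply, Ideal.mem_span_singleton, ← hpow]
      exact mul_dvd_mul_left _ hx)
  let L : AdjoinRoot (p ^ (e - k)) →ₗ[F] AdjoinRoot (p ^ e) := L0.restrictScalars F
  have hL : ∀ f, L (AdjoinRoot.mk _ f) = AdjoinRoot.mk (p ^ e) (p ^ k * f) := fun f => rfl
  have hinj : Function.Injective L := by
    rw [← LinearMap.ker_eq_bot, Submodule.eq_bot_iff]
    intro x hx
    obtain ⟨f, rfl⟩ := AdjoinRoot.mk_surjective x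
    rw [LinearMap.mem_ker, hL, AdjoinRoot.mk_eq_zero, ← hpow] at hx
    exact AdjoinRoot.mk_eq_zero.2 ((mul_dvd_mul_iff_left (hp.pow k).ne_zero).1 hx)
  have hr : LinearMap.range L = LinearMap.range (mulBy (p ^ e) (p ^ k)) := by
    apply le_antisymm
    · rintro _ ⟨x, rfl⟩
      obtain ⟨f, rfl⟩ := AdjoinRoot.mk_surjective x
      exact ⟨AdjoinRoot.mk _ f, by rw [hL, mulBy_apply, map_mul]⟩
    · rintro _ ⟨x, rfl⟩
      obtain ⟨f, rfl⟩ := AdjoinRoot.mk_surjective x
      exact ⟨AdjoinRoot.mk _ f, by rw [hL, mulBy_apply, map_mul]⟩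
  rw [← hr, LinearMap.finrank_range_of_inj hinj, finrank_adjoinRoot (hp.pow _), natDegree_pow]

end CfsgLib.ClassNum
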